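import Cfsg.Agent.Lib.FixedHalf.Perm

/-! An abelian normal subgroup that is not centralised by the generator: small fixed space. -/

set_option autoImplicit false

namespace CfsgLib.FixedHalf

open Module

/-- Fixed vectors of an endomorphism permuting a separating family of maps. -/
theorem fixed_le {k V Ω : Type*} [Field k] [AddCommGroup V] [Module k V] [FiniteDimensional k V]
    (P : Ω → (V →ₗ[k] V)) (σ : Equiv.Perm Ω) (T : V →ₗ[k] V) (hT : ∀ i v, P (σ i) (T v) = T (P i v))
    (hsep : ∀ v, (∀ i, P i v = 0) → v = 0) (S : Finset Ω) (hS : ∀ ω, ∃ i : ℕ, ∃ s ∈ S, ω = (σ ^ i) s)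
    (d : ℕ) (hd : ∀ i, finrank k (LinearMap.range (P i)) ≤ d) :
    finrank k (LinearMap.ker (T - LinearMap.id)) ≤ S.card * d := by
  classical
  let L : LinearMap.ker (T - LinearMap.id) →ₗ[k] ((s : S) → LinearMap.range (P s.1)) :=
    LinearMap.pi fun s => (P s.1).rangeRestrict ∘ₗ Submodule.subtype _
  have hL : Function.Injective L := by
    rw [← LinearMap.ker_eq_bot, LinearMap.ker_eq_bot']
    intro v hv
    have hTv : T v.1 = v.1 := sub_eq_zero.mp (LinearMap.mem_ker.mp v.2)
    refine Subtype.ext (hsep _ fun ω => ?_)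
    obtain ⟨i, s, hs, rfl⟩ := hS ω
    induction i with
    | zero =>
      have := congrArg Subtype.val (congrFun hv ⟨s, hs⟩)
      simpa [L] using this
    | succ i ih => rw [pow_succ', Equiv.Perm.mul_apply, ← hTv, hT, ih, map_zero]
  refine (LinearMap.finrank_le_finrank_of_injective hL).trans ?_
  rw [Module.finrank_pi_fintype]
  refine (Finset.sum_le_sum (fun s _ => hd s.1)).trans ?_
  rw [Finset.sum_const, smul_eq_mul, Finset.card_univ, Fintype.card_coe]

/-- Orthogonal idempotent maps have independent images. -/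
theorem sum_ge {k V Ω : Type*} [Field k] [AddCommGroup V] [Module k V] [FiniteDimensional k V] [Fintype Ω]
    (P : Ω → (V →ₗ[k] V)) (hne : ∀ i j v, i ≠ j → P i (P j v) = 0) (heq : ∀ i v, P i (P i v) = P i v) :
    ∑ i, finrank k (LinearMap.range (P i)) ≤ finrank k V := by
  classical
  let L : ((i : Ω) → LinearMap.range (P i)) →ₗ[k] V :=
    ∑ i, Submodule.subtype _ ∘ₗ LinearMap.proj i
  have hL : Function.Injective L := by
    rw [← LinearMap.ker_eq_bot, LinearMap.ker_eq_bot']
    intro v hv
    funext j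
    have h := congrArg (P j) hv
    simp only [L, LinearMap.coe_sum, Finset.sum_apply, map_sum, map_zero, LinearMap.comp_apply,
      LinearMap.proj_apply, Submodule.subtype_apply] at h
    obtain ⟨w, hw⟩ := (v j).2
    rw [Finset.sum_eq_single j, ← hw, heq, hw] at h
    · exact Subtype.ext h
    · intro i _ hij
      obtain ⟨u, hu⟩ := (v i).2
      rw [← hu, hne j i u (Ne.symm hij)]
    · exact fun h => absurd (Finset.mem_univ j) h
  exact (Module.finrank_pi_fintype k).symm.le.trans (LinearMap.finrank_le_finrank_of_injective hL)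

/-- An invariant subspace of an irreducible representation. -/
theorem bot_or_top {G k V : Type*} [Group G] [Field k] [AddCommGroup V] [Module k V] (ρ : Representation k G V)
    [ρ.IsIrreducible] (W : Submodule k V) (hW : ∀ g, ∀ v ∈ W, ρ g v ∈ W) : W = ⊥ ∨ W = ⊤ := by
  let S : Subrepresentation ρ := ⟨W, fun g v hv => hW g v hv⟩
  rcases eq_bot_or_eq_top S with h | h
  · exact Or.inl (congrArg Subrepresentation.toSubmodule h)
  · exact Or.inr (congrArg Subrepresentation.toSubmodule h)

set_option maxHeartbeats 4000000 in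
/-- An abelian normal subgroup not centralised by `x` forces a small fixed space. -/
theorem abelian_case {G : Type*} [Group G] [Finite G] [Group.IsSolvable G] {p : ℕ} (hp : p.Prime) (hp3 : 3 < p)
    {x : G} (hx : x ^ p = 1) (hgen : Subgroup.normalClosure ({x} : Set G) = ⊤)
    {k V : Type*} [Field k] [AddCommGroup V] [Module k V] [FiniteDimensional k V] (ρ : Representation k G V)
    [ρ.IsIrreducible] (hρ : Function.Injective ρ) {A : Subgroup G} [A.Normal]
    (hA : ∀ a ∈ A, ∀ b ∈ A, a * b = b * a) (hxA : ∃ a ∈ A, x * a * x⁻¹ ≠ a) :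
    2 * finrank k (LinearMap.ker (ρ x - LinearMap.id)) < finrank k V := by
  classical
  obtain ⟨v₁, hv₁⟩ : ∃ v : V, v ≠ 0 := by
    by_contra h
    simp only [not_exists, not_not] at h
    obtain ⟨a, -, ha⟩ := hxA
    exact ha (hρ (LinearMap.ext fun v => (h _).trans (h _).symm))
  set R : Subalgebra k (Module.End k V) := Algebra.adjoin k (ρ '' (A : Set G)) with hR
  have hRc : ∀ r ∈ R, ∀ s ∈ R, r * s = s * r := by
    intro r hr
    induction hr using Algebra.adjoin_induction with
    | mem r hr =>
      intro s hs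
      induction hs using Algebra.adjoin_induction with
      | mem s hs =>
        obtain ⟨a, ha, rfl⟩ := hr
        obtain ⟨b, hb, rfl⟩ := hs
        rw [← map_mul, hA a ha b hb, map_mul]
      | algebraMap c => exact (Algebra.commutes c r).symm
      | add s t _ _ h1 h2 => rw [mul_add, add_mul, h1, h2]
      | mul s t _ _ h1 h2 => rw [← mul_assoc, h1, mul_assoc, h2, mul_assoc]
    | algebraMap c => exact fun s _ => Algebra.commutes c s
    | add r t _ _ h1 h2 => intro s hs; rw [mul_add, add_mul, h1 s hs, h2 s hs]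
    | mul r t _ _ h1 h2 => intro s hs; rw [mul_assoc, h2 s hs, ← mul_assoc, h1 s hs, mul_assoc]
  letI : CommRing R := { R.toRing with mul_comm := fun a b => Subtype.ext (hRc a.1 a.2 b.1 b.2) }
  haveI : IsArtinianRing R := IsArtinianRing.of_finite k R
  have hgg : ∀ g : G, ρ g⁻¹ * ρ g = 1 := fun g => by rw [← map_mul, inv_mul_cancel, map_one]
  have hconj : ∀ g : G, ∀ r ∈ R, ρ g * r * ρ g⁻¹ ∈ R := by
    intro g r hr
    induction hr using Algebra.adjoin_induction with
    | mem r hr =>
      obtain ⟨a, ha, rfl⟩ := hr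
      exact Algebra.subset_adjoin ⟨g * a * g⁻¹, Subgroup.Normal.conj_mem inferInstance a ha g, by simp only [map_mul]⟩
    | algebraMap c =>
      rw [← Algebra.commutes, mul_assoc, ← map_mul, mul_inv_cancel, map_one, mul_one]
      exact R.algebraMap_mem c
    | add r t _ _ h1 h2 => rw [mul_add, add_mul]; exact R.add_mem h1 h2
    | mul r t _ _ h1 h2 =>
      have : ρ g * (r * t) * ρ g⁻¹ = (ρ g * r * ρ g⁻¹) * (ρ g * t * ρ g⁻¹) := by
        calc _ = ρ g * r * ((ρ g⁻¹ * ρ g) * t) * ρ g⁻¹ := by rw [hgg, one_mul, mul_assoc (ρ g) r]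
          _ = _ := by simp only [mul_assoc]
      exact this ▸ R.mul_mem h1 h2
  let α : G → R → R := fun g r => ⟨ρ g * r.1 * ρ g⁻¹, hconj g r.1 r.2⟩
  have hαval : ∀ g r, (α g r).1 = ρ g * r.1 * ρ g⁻¹ := fun g r => rfl
  have hα1 : ∀ r, α 1 r = r := fun r => Subtype.ext (by simp [hαval])
  have hαmul : ∀ g h r, α (g * h) r = α g (α h r) := fun g h r => Subtype.ext (by
    simp [hαval, map_mul, mul_assoc])
  have hαm : ∀ g r s, α g (r * s) = α g r * α g s := fun g r s => Subtype.ext (by
    show ρ g * (r.1 * s.1) * ρ g⁻¹ = (ρ g * r.1 * ρ g⁻¹) * (ρ g * s.1 * ρ g⁻¹)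
    calc _ = ρ g * r.1 * ((ρ g⁻¹ * ρ g) * s.1) * ρ g⁻¹ := by rw [hgg, one_mul, mul_assoc (ρ g) r.1]
      _ = _ := by simp only [mul_assoc])
  have hα0 : ∀ g, α g 0 = 0 := fun g => Subtype.ext (by simp [hαval])
  have hαsum : ∀ g, ∀ {ι : Type _} (s : Finset ι) (f : ι → R), α g (∑ i ∈ s, f i) = ∑ i ∈ s, α g (f i) := by
    intro g ι s f
    refine Subtype.ext ?_
    rw [hαval, AddSubmonoidClass.coe_finsetSum, AddSubmonoidClass.coe_finsetSum, Finset.mul_sum, Finset.sum_mul]
  have hαinv : ∀ g r, α g⁻¹ (α g r) = r := fun g r => by rw [← hαmul, inv_mul_cancel, hα1]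
  have hαapp : ∀ g (r : R) v, (α g r).1 (ρ g v) = ρ g (r.1 v) := by
    intro g r v
    rw [hαval]
    show (ρ g * r.1 * ρ g⁻¹ * ρ g) v = (ρ g * r.1) v
    rw [mul_assoc, hgg, mul_one]
  haveI : IsReduced R := by
    refine ⟨fun r hr => ?_⟩
    let N0 : Submodule k V := ⨅ (s : R) (_ : IsNilpotent s), LinearMap.ker s.1
    have hN0 : ∀ v, v ∈ N0 ↔ ∀ s : R, IsNilpotent s → s.1 v = 0 := fun v => by
      simp [N0, Submodule.mem_iInf, LinearMap.mem_ker]
    have hnil : ∀ g s, IsNilpotent s → IsNilpotent (α g s) := by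
      rintro g s ⟨n, hn⟩
      refine ⟨n + 1, ?_⟩
      have : ∀ m, α g (s ^ (m + 1)) = α g s ^ (m + 1) := by
        intro m
        induction m with
        | zero => simp
        | succ m ih => rw [pow_succ, hαm, ih, ← pow_succ]
      rw [← this, pow_succ, hn, zero_mul, hα0]
    have hinv : ∀ g, ∀ v ∈ N0, ρ g v ∈ N0 := by
      intro g v hv
      rw [hN0] at hv ⊢
      intro s hs
      have h1 := hv (α g⁻¹ s) (hnil _ _ hs)
      have h2 := hαapp g (α g⁻¹ s) v
      rw [← hαmul, mul_inv_cancel, hα1, h1, map_zero] at h2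
      exact h2
    rcases bot_or_top ρ N0 hinv with h | h
    · exfalso
      let ev : V → (R →ₗ[k] V) := fun v =>
        { toFun := fun s => s.1 v
          map_add' := fun _ _ => rfl
          map_smul' := fun _ _ => rfl }
      obtain ⟨v, hv, hmin⟩ := (InvImage.wf (fun v => finrank k (LinearMap.range (ev v))) Nat.lt_wfRel.wf).has_min
        {v : V | v ≠ 0} ⟨v₁, hv₁⟩
      refine hv ((Submodule.mem_bot k).mp (h ▸ (hN0 v).mpr fun s hs => ?_))
      by_contra hsv
      have hle : LinearMap.range (ev (s.1 v)) ≤ LinearMap.range (ev v) := by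
        rintro _ ⟨t, rfl⟩
        exact ⟨t * s, rfl⟩
      have hnlt := hmin (s.1 v) hsv
      have heq : LinearMap.range (ev (s.1 v)) = LinearMap.range (ev v) :=
        Submodule.eq_of_le_of_finrank_le hle (not_lt.mp hnlt)
      have hvmem : v ∈ LinearMap.range (ev (s.1 v)) := heq ▸ ⟨1, rfl⟩
      obtain ⟨t, ht⟩ := hvmem
      obtain ⟨n, hn⟩ := hs
      have hfix : ∀ m : ℕ, ((t * s) ^ m).1 v = v := by
        intro m
        induction m with
        | zero => rfl
        | succ m ih =>
          rw [pow_succ]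
          show ((t * s) ^ m).1 (t.1 (s.1 v)) = v
          exact (congrArg _ ht).trans ih
      have := hfix n
      rw [mul_pow, hn, mul_zero] at this
      exact hv this.symm
    · refine Subtype.ext (LinearMap.ext fun v => ?_)
      exact (hN0 v).mp (h ▸ Submodule.mem_top) r hr
  -- primitive idempotents
  haveI := Fintype.ofFinite (MaximalSpectrum R)
  let Φ := IsArtinianRing.equivPi R
  let e : MaximalSpectrum R → R := fun m => Φ.symm (Pi.single m 1)
  have hΦe : ∀ m, Φ (e m) = Pi.single m 1 := fun m => Φ.apply_symm_apply _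
  have hfld : ∀ m : MaximalSpectrum R, IsDomain (R ⧸ m.asIdeal) := fun m => by
    haveI := m.isMaximal
    infer_instance
  have hee : ∀ m m', e m * e m' = if m = m' then e m else 0 := by
    intro m m'
    apply Φ.injective
    rw [map_mul, hΦe, hΦe]
    split_ifs with h
    · subst h; rw [hΦe, ← Pi.single_mul, one_mul]
    · rw [map_zero]
      funext j
      rcases eq_or_ne j m with rfl | hj
      · rw [Pi.mul_apply, Pi.single_eq_of_ne (Ne.intro fun e' => h e'), mul_zero]; rfl
      · rw [Pi.mul_apply, Pi.single_eq_of_ne hj, zero_mul]; rfl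
  have he0 : ∀ m, e m ≠ 0 := by
    intro m h
    haveI := hfld m
    have := congrFun (congrArg Φ h) m
    rw [hΦe, Pi.single_eq_same, map_zero] at this
    exact one_ne_zero this
  have hsum : ∑ m, e m = 1 := by
    apply Φ.injective
    rw [map_sum, map_one]
    simp only [hΦe]
    exact Finset.univ_sum_single (fun _ => (1 : _))
  have hidem : ∀ (f : R), f * f = f → ∀ m, f * e m = 0 ∨ f * e m = e m := by
    intro f hf m
    haveI := hfld m
    have h2 : Φ f m * Φ f m = Φ f m := by rw [← Pi.mul_apply, ← map_mul, hf]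
    have h3 : Φ (f * e m) = Pi.single m (Φ f m) := by
      rw [map_mul, hΦe]
      funext j
      rcases eq_or_ne j m with rfl | hj
      · rw [Pi.mul_apply, Pi.single_eq_same, Pi.single_eq_same, mul_one]
      · rw [Pi.mul_apply, Pi.single_eq_of_ne hj, Pi.single_eq_of_ne hj, mul_zero]
    rcases IsIdempotentElem.iff_eq_zero_or_one.mp h2 with h | h
    · exact Or.inl (Φ.injective (by rw [h3, h, Pi.single_zero, map_zero]))
    · exact Or.inr (Φ.injective (by rw [h3, h, hΦe]))
  have hperm : ∀ g m, ∃ m', α g (e m) = e m' := by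
    intro g m
    have hidm : α g (e m) * α g (e m) = α g (e m) := by rw [← hαm, hee, if_pos rfl]
    obtain ⟨m', hm'⟩ : ∃ m', α g (e m) * e m' ≠ 0 := by
      by_contra h
      simp only [not_exists, not_not] at h
      refine he0 m ?_
      rw [← hαinv g (e m), ← mul_one (α g (e m)), ← hsum, Finset.mul_sum, Finset.sum_eq_zero (fun i _ => h i), hα0]
    have h1 : α g (e m) * e m' = e m' := (hidem _ hidm m').resolve_left hm'
    have h2 : α g⁻¹ (e m') * e m = α g⁻¹ (e m') := by
      conv_rhs => rw [← h1, hαm, hαinv]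
      exact mul_comm _ _
    have hidm' : α g⁻¹ (e m') * α g⁻¹ (e m') = α g⁻¹ (e m') := by rw [← hαm, hee, if_pos rfl]
    rcases hidem _ hidm' m with h | h
    · exfalso
      apply he0 m'
      have := congrArg (α g) (h2.symm.trans h)
      rwa [hα0, ← hαmul, mul_inv_cancel, hα1] at this
    · refine ⟨m', ?_⟩
      rw [← h, h2, ← hαmul, mul_inv_cancel, hα1]
  choose π hπ using hperm
  have heinj : Function.Injective e := by
    intro m m' h
    by_contra hne
    have h1 := hee m m'
    rw [if_neg hne, ← h, hee, if_pos rfl] at h1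
    exact he0 m h1
  letI : MulAction G (MaximalSpectrum R) :=
    { smul := π
      one_smul := fun m => heinj (show e (π 1 m) = e m by rw [← hπ, hα1])
      mul_smul := fun g h m => heinj (show e (π (g * h) m) = e (π g (π h m)) by rw [← hπ, ← hπ, ← hπ, hαmul]) }
  have hsmul : ∀ g m, α g (e m) = e (g • m) := hπ
  have he1 : ∀ m, ∃ v, (e m).1 v ≠ 0 := by
    intro m
    by_contra h
    simp only [not_exists, not_not] at h
    exact he0 m (Subtype.ext (LinearMap.ext fun v => h v))
  have heev : ∀ m m' v, (e m).1 ((e m').1 v) = (e m * e m').1 v := fun m m' v => rfl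
  haveI : MulAction.IsPretransitive G (MaximalSpectrum R) := by
    refine ⟨fun m m' => ?_⟩
    by_contra hno
    let O := (Finset.univ.filter fun j => j ∈ MulAction.orbit G m)
    let f : R := ∑ j ∈ O, e j
    have hf : ∀ g, α g f = f := by
      intro g
      rw [hαsum]
      simp only [hsmul]
      refine Finset.sum_nbij (fun j => g • j) ?_ ?_ ?_ (fun j _ => rfl)
      · intro j hj
        simp only [O, Finset.mem_filter, Finset.mem_univ, true_and] at hj ⊢
        exact MulAction.mem_orbit_of_mem_orbit g hj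
      · exact fun a _ b _ h => MulAction.injective g h
      · intro j hj
        simp only [O, Finset.coe_filter, Finset.mem_univ, true_and, Set.mem_setOf_eq] at hj
        refine ⟨g⁻¹ • j, ?_, smul_inv_smul g j⟩
        simp only [O, Finset.coe_filter, Finset.mem_univ, true_and, Set.mem_setOf_eq]
        exact MulAction.mem_orbit_of_mem_orbit g⁻¹ hj
    have hinv : ∀ g, ∀ v ∈ LinearMap.range f.1, ρ g v ∈ LinearMap.range f.1 := by
      rintro g _ ⟨v, rfl⟩
      refine ⟨ρ g v, ?_⟩
      rw [← hαapp g f v, hf g]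
    have hmul : ∀ j ∉ O, e j * f = 0 := by
      intro j hj
      rw [Finset.mul_sum]
      exact Finset.sum_eq_zero fun i hi => by rw [hee, if_neg (fun (e' : j = i) => hj (e' ▸ hi))]
    rcases bot_or_top ρ _ hinv with h | h
    · obtain ⟨v, hv⟩ := he1 m
      have h0 : f.1 = 0 := LinearMap.range_eq_bot.mp h
      have h1 : e m * f = e m := by
        rw [Finset.mul_sum, Finset.sum_eq_single m]
        · rw [hee, if_pos rfl]
        · intro j _ hj; rw [hee, if_neg (Ne.symm hj)]
        · intro hm; exact absurd (Finset.mem_filter.mpr ⟨Finset.mem_univ _, MulAction.mem_orbit_self m⟩) hm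
      apply hv
      rw [← h1]
      show (e m).1 (f.1 v) = 0
      rw [h0, LinearMap.zero_apply, map_zero]
    · have hm' : m' ∉ O := fun hh => hno (Finset.mem_filter.mp hh).2
      obtain ⟨v, hv⟩ := he1 m'
      obtain ⟨w, hw⟩ : v ∈ LinearMap.range f.1 := h ▸ Submodule.mem_top
      apply hv
      rw [← hw]
      show (e m' * f).1 w = 0
      rw [hmul m' hm']
      rfl
  rcases subsingleton_or_nontrivial (MaximalSpectrum R) with hss | hnt
  · -- `R` is a field
    have hunit : ∀ r : R, r ≠ 0 → ∀ v, r.1 v = 0 → v = 0 := by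
      intro r hr v hv
      have hu : IsUnit r := by
        have : IsUnit (Φ r) := by
          rw [Pi.isUnit_iff]
          intro m
          haveI := m.isMaximal
          letI := Ideal.Quotient.field m.asIdeal
          refine isUnit_iff_ne_zero.mpr fun h => hr (Φ.injective ?_)
          rw [map_zero]
          funext j
          rw [Subsingleton.elim j m]
          exact h
        simpa using this.map Φ.symm
      obtain ⟨s, hs⟩ := hu.exists_left_inv
      have : (s * r).1 v = v := by rw [hs]; rfl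
      rw [← this]
      show s.1 (r.1 v) = 0
      rw [hv, map_zero]
    obtain ⟨a, ha, hxa⟩ := hxA
    set a₁ := x * a * x⁻¹ with ha₁
    set a₂ := x * a₁ * x⁻¹ with ha₂
    have ha₁A : a₁ ∈ A := Subgroup.Normal.conj_mem inferInstance a ha x
    have ha₂A : a₂ ∈ A := Subgroup.Normal.conj_mem inferInstance a₁ ha₁A x
    have h21 : a₂ ≠ a₁ := fun h => hxa (by
      have := congrArg (fun z => x⁻¹ * z * x) h
      simpa [ha₂, ha₁, mul_assoc] using this)
    have h20 : a₂ ≠ a := by
      intro h
      apply hxa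
      have hc : Commute (x ^ 2) a := by
        show x ^ 2 * a = a * x ^ 2
        calc x ^ 2 * a = (x * (x * a * x⁻¹) * x⁻¹) * x ^ 2 := by rw [pow_two]; group
          _ = a * x ^ 2 := by rw [show x * (x * a * x⁻¹) * x⁻¹ = a from h]
      have hodd : p % 2 = 1 := hp.eq_two_or_odd.resolve_left (by omega)
      have hc2 := hc.pow_left ((p + 1) / 2)
      rw [← pow_mul, show 2 * ((p + 1) / 2) = p + 1 by omega, pow_succ, hx, one_mul] at hc2
      rw [ha₁, hc2.eq, mul_inv_cancel_right]
    let R' : ∀ b ∈ A, R := fun b hb => ⟨ρ b, Algebra.subset_adjoin ⟨b, hb, rfl⟩⟩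
    have hdiff : ∀ b (hb : b ∈ A) b' (hb' : b' ∈ A), b ≠ b' → ∀ v, ρ b v = ρ b' v → v = 0 := by
      intro b hb b' hb' hne v hv
      refine hunit (R' b hb - R' b' hb') (fun h => hne (hρ ?_)) v ?_
      · exact congrArg Subtype.val (sub_eq_zero.mp h)
      · show ρ b v - ρ b' v = 0
        rw [hv, sub_self]
    set C := LinearMap.ker (ρ x - LinearMap.id)
    have hC : ∀ v : C, ρ x v.1 = v.1 := fun v => sub_eq_zero.mp (LinearMap.mem_ker.mp v.2)
    let L : C × C × C →ₗ[k] V :=
      Submodule.subtype C ∘ₗ LinearMap.fst k C (C × C) +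
      ρ a ∘ₗ Submodule.subtype C ∘ₗ LinearMap.fst k C C ∘ₗ LinearMap.snd k C (C × C) +
      ρ a ∘ₗ ρ a ∘ₗ Submodule.subtype C ∘ₗ LinearMap.snd k C C ∘ₗ LinearMap.snd k C (C × C)
    have hLapp : ∀ u, L u = u.1.1 + ρ a u.2.1.1 + ρ a (ρ a u.2.2.1) := fun u => rfl
    have hxb : ∀ b, ∀ v, ρ x (ρ b v) = ρ (x * b * x⁻¹) (ρ x v) := by
      intro b v
      rw [← Module.End.mul_apply, ← Module.End.mul_apply, ← map_mul, ← map_mul, inv_mul_cancel_right]
    have hcomm : ∀ b ∈ A, ∀ b' ∈ A, ∀ v, ρ b (ρ b' v) = ρ b' (ρ b v) := by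
      intro b hb b' hb' v
      rw [← Module.End.mul_apply, ← Module.End.mul_apply, ← map_mul, ← map_mul, hA b hb b' hb']
    have hL : Function.Injective L := by
      rw [← LinearMap.ker_eq_bot, LinearMap.ker_eq_bot']
      intro u hu
      rw [hLapp] at hu
      have e1 := congrArg (ρ x) hu
      simp only [map_add, map_zero, hxb, hC, ← ha₁] at e1
      have e2 := congrArg (ρ x) e1
      simp only [map_add, map_zero, hxb, hC, ← ha₂] at e2
      have key : ∀ b (hb : b ∈ A) b' (hb' : b' ∈ A), b ≠ b' →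
          u.1.1 + ρ b u.2.1.1 + ρ b (ρ b u.2.2.1) = 0 → u.1.1 + ρ b' u.2.1.1 + ρ b' (ρ b' u.2.2.1) = 0 →
          u.2.1.1 + ρ b u.2.2.1 + ρ b' u.2.2.1 = 0 := by
        intro b hb b' hb' hne f1 f2
        refine hdiff b hb b' hb' hne _ ?_
        simp only [map_add]
        rw [hcomm b' hb' b hb]
        have := f1.trans f2.symm
        rw [add_assoc, add_assoc, add_right_inj] at this
        rw [this]
        abel
      have k1 := key a ha a₁ ha₁A (Ne.symm hxa) hu e1
      have k2 := key a ha a₂ ha₂A (Ne.symm h20) hu e2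
      have h2 : u.2.2.1 = 0 := hdiff a₁ ha₁A a₂ ha₂A (Ne.symm h21) _ (add_left_cancel (k1.trans k2.symm))
      rw [h2, map_zero, map_zero, add_zero, add_zero] at k1
      rw [h2, k1, map_zero, map_zero, add_zero, add_zero] at hu
      exact Prod.ext (Subtype.ext hu) (Prod.ext (Subtype.ext k1) (Subtype.ext h2))
    have h3 := LinearMap.finrank_le_finrank_of_injective hL
    rw [Module.finrank_prod, Module.finrank_prod] at h3
    have hpos : 0 < finrank k V := Module.finrank_pos_iff_exists_ne_zero.mpr ⟨v₁, hv₁⟩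
    omega
  · -- several components
    obtain ⟨m₀⟩ : Nonempty (MaximalSpectrum R) := inferInstance
    let P : MaximalSpectrum R → (V →ₗ[k] V) := fun m => (e m).1
    set d := finrank k (LinearMap.range (P m₀)) with hd
    have hdd : ∀ m, finrank k (LinearMap.range (P m)) = d := by
      intro m
      obtain ⟨g, rfl⟩ := MulAction.exists_smul_eq G m₀ m
      let φ : V ≃ₗ[k] V := LinearEquiv.ofLinearMap (ρ g) (ρ g⁻¹)
        (show ρ g * ρ g⁻¹ = 1 by rw [← map_mul, mul_inv_cancel, map_one]) (hgg g)
      have himg : LinearMap.range (P (g • m₀)) = Submodule.map (φ : V →ₗ[k] V) (LinearMap.range (P m₀)) := by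
        ext v
        constructor
        · rintro ⟨w, rfl⟩
          refine ⟨_, ⟨ρ g⁻¹ w, rfl⟩, ?_⟩
          show ρ g ((e m₀).1 (ρ g⁻¹ w)) = (e (g • m₀)).1 w
          rw [← hsmul]
          rfl
        · rintro ⟨_, ⟨w, rfl⟩, rfl⟩
          refine ⟨ρ g w, ?_⟩
          show (e (g • m₀)).1 (ρ g w) = ρ g ((e m₀).1 w)
          rw [← hsmul, hαapp]
      rw [himg, LinearEquiv.finrank_map_eq]
    have hN : Fintype.card (MaximalSpectrum R) * d ≤ finrank k V := by
      have h := sum_ge P (fun i j v hij => by show (e i * e j).1 v = 0; rw [hee, if_neg hij]; rfl)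
        (fun i v => by show (e i * e i).1 v = _; rw [hee, if_pos rfl])
      simpa [hdd] using h
    let σ : Equiv.Perm (MaximalSpectrum R) := MulAction.toPerm x
    have hσp : σ ^ p = 1 := by
      have h : ∀ i : ℕ, ∀ m, (σ ^ i) m = x ^ i • m := by
        intro i
        induction i with
        | zero => simp
        | succ i ih => intro m; rw [pow_succ', Equiv.Perm.mul_apply, ih, pow_succ', mul_smul]; rfl
      ext1 m
      rw [h, hx, one_smul, Equiv.Perm.one_apply]
    obtain ⟨S, hS, hcard⟩ := exists_reps σ hp hσp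
    have hc : finrank k (LinearMap.ker (ρ x - LinearMap.id)) ≤ S.card * d := by
      refine fixed_le P σ (ρ x) ?_ ?_ S hS d (fun m => (hdd m).le)
      · intro i v
        show (e (x • i)).1 (ρ x v) = _
        rw [← hsmul, hαapp]
      · intro v hv
        have : (∑ m, e m).1 v = v := by rw [hsum]; rfl
        rw [← this, AddSubmonoidClass.coe_finsetSum, LinearMap.sum_apply]
        exact Finset.sum_eq_zero fun m _ => hv m
    have hf := fixed_bound (Ω := MaximalSpectrum R) hp (by omega) hx hgen
    have hfe : Nat.card {m : MaximalSpectrum R // σ m = m} = {m : MaximalSpectrum R | x • m = m}.ncard :=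
      Nat.card_coe_set_eq _
    rw [hfe, Nat.card_eq_fintype_card] at hcard
    rw [Nat.card_eq_fintype_card] at hf
    have hdpos : 0 < d := by
      obtain ⟨v, hv⟩ := he1 m₀
      exact Module.finrank_pos_iff_exists_ne_zero.mpr ⟨⟨_, v, rfl⟩, fun h => hv (congrArg Subtype.val h)⟩
    have hn : 0 < Fintype.card (MaximalSpectrum R) := Fintype.card_pos
    set n := Fintype.card (MaximalSpectrum R)
    set f := {m : MaximalSpectrum R | x • m = m}.ncard
    obtain ⟨q, rfl⟩ : ∃ q, p = q + 5 := ⟨p - 5, by
      have : p ≠ 4 := fun h => by rw [h] at hp; norm_num at hp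
      omega⟩
    rw [show q + 5 - 1 = q + 4 by omega] at hcard
    have hkey : 2 * S.card < n := by nlinarith
    have hkey' : 2 * S.card * d < n * d := Nat.mul_lt_mul_of_pos_right hkey hdpos
    rw [mul_assoc] at hkey'
    omega

end CfsgLib.FixedHalf
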