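import Cfsg.Agent.Lib.FixedHalf.Abelian

/-! A noncentral normal subgroup of class two: small fixed space. -/

set_option autoImplicit false

namespace CfsgLib.FixedHalf

open Module
open scoped commutatorElement

universe u

/-- The sum of a nontrivial multiplicative function on a finite group vanishes. -/
theorem sum_char_eq_zero {k W : Type*} [Field k] [Group W] [Fintype W] (f : W → k)
    (hf : ∀ a b, f (a * b) = f a * f b) {a : W} (ha : f a ≠ 1) : ∑ w, f w = 0 := by
  have h : ∑ w, f w = f a * ∑ w, f w := by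
    rw [Finset.mul_sum, ← Equiv.sum_comp (Equiv.mulLeft a) f]
    exact Finset.sum_congr rfl fun w _ => hf a w
  by_contra h0
  exact ha (mul_right_cancel₀ h0 ((one_mul _).trans h)).symm

/-- An element with a fixed space of dimension `c` has a centraliser of dimension more than `c ^ 2`. -/
theorem sq_lt_fixed {k V : Type*} [Field k] [AddCommGroup V] [Module k V] [FiniteDimensional k V]
    (T : V →ₗ[k] V) (hT : T ≠ LinearMap.id) (F : Submodule k (Module.End k V))
    (hF : ∀ S : V →ₗ[k] V, T ∘ₗ S = S → S ∘ₗ T = S → S ∈ F) (hid : LinearMap.id ∈ F) :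
    finrank k (LinearMap.ker (T - LinearMap.id)) * finrank k (LinearMap.ker (T - LinearMap.id)) + 1 ≤ finrank k F := by
  set C := LinearMap.ker (T - LinearMap.id)
  set U := LinearMap.range (T - LinearMap.id)
  let Θ : ((V ⧸ U) →ₗ[k] C) × k →ₗ[k] Module.End k V :=
    { toFun := fun φ => C.subtype ∘ₗ φ.1 ∘ₗ U.mkQ + φ.2 • LinearMap.id
      map_add' := fun φ ψ => by
        refine LinearMap.ext fun v => ?_
        simp [add_smul]
        abel
      map_smul' := fun c φ => by
        refine LinearMap.ext fun v => ?_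
        simp [mul_smul] }
  have hΘ : ∀ φ, Θ φ ∈ F := by
    intro φ
    refine F.add_mem (hF _ ?_ ?_) (F.smul_mem _ hid)
    · refine LinearMap.ext fun v => ?_
      have h := (φ.1 (U.mkQ v)).2
      exact sub_eq_zero.mp (LinearMap.mem_ker.mp h)
    · refine LinearMap.ext fun v => ?_
      show ((φ.1 (U.mkQ (T v))) : V) = ((φ.1 (U.mkQ v)) : V)
      have h : U.mkQ (T v) = U.mkQ v := by
        rw [Submodule.mkQ_apply, Submodule.mkQ_apply, Submodule.Quotient.eq]
        exact ⟨v, rfl⟩
      rw [h]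
  have hinj : Function.Injective Θ := by
    rw [← LinearMap.ker_eq_bot, LinearMap.ker_eq_bot']
    rintro ⟨φ, c⟩ h
    have hv : ∀ v, (φ (U.mkQ v) : V) + c • v = 0 := fun v => LinearMap.congr_fun h v
    have hc : c = 0 := by
      by_contra hc
      refine hT (LinearMap.ext fun v => ?_)
      have h1 : c • v ∈ C := by
        rw [← neg_eq_of_add_eq_zero_right (hv v)]
        exact C.neg_mem (φ (U.mkQ v)).2
      exact sub_eq_zero.mp (LinearMap.mem_ker.mp ((C.smul_mem_iff hc).mp h1))
    subst hc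
    refine Prod.ext ?_ rfl
    refine LinearMap.ext fun w => ?_
    obtain ⟨v, rfl⟩ := U.mkQ_surjective w
    refine Subtype.ext ?_
    have := hv v
    rw [zero_smul, add_zero] at this
    exact this
  have hle : LinearMap.range Θ ≤ F := by rintro _ ⟨φ, rfl⟩; exact hΘ φ
  have h1 := Submodule.finrank_mono hle
  rw [LinearMap.finrank_range_of_inj hinj, Module.finrank_prod, Module.finrank_linearMap, Module.finrank_self] at h1
  have h2 := U.finrank_quotient_add_finrank
  have h3 : finrank k U + finrank k C = finrank k V := LinearMap.finrank_range_add_finrank_ker _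
  have h4 : finrank k (V ⧸ U) = finrank k C := by omega
  rw [h4] at h1
  exact h1

/-- The arithmetic of the orbits. -/
theorem orbit_arith {p q j i : ℕ} (hp : p.Prime) (hp3 : 3 < p) (hq : q.Prime) (hj : 2 ≤ j) (hi : i = q ^ j)
    (hcong : q ≠ p → i % p = 1) : 4 * (p - 1 + i) ≤ p * i := by
  have hp4 : p ≠ 4 := fun h => by rw [h] at hp; norm_num at hp
  have hp6 : p ≠ 6 := fun h => by rw [h] at hp; norm_num at hp
  have hbig : p = 5 ∧ 16 ≤ i ∨ p = 7 ∧ 8 ≤ i ∨ (8 ≤ p ∧ 7 ≤ i) := by
    rcases eq_or_ne q p with rfl | hne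
    · have : q ^ 2 ≤ i := hi ▸ Nat.pow_le_pow_right hq.pos hj
      have : 5 * q ≤ q ^ 2 := by rw [sq]; exact Nat.mul_le_mul_right _ (by omega)
      rcases lt_or_ge q 8 with h | h <;> omega
    · have hc := hcong hne
      have hi2 : q ^ 2 ≤ i := hi ▸ Nat.pow_le_pow_right hq.pos hj
      have hi4 : 4 ≤ i := le_trans (by nlinarith [hq.two_le]) hi2
      rcases lt_or_ge i 16 with hlt | hge
      · have hq4 : q < 4 := by nlinarith
        have hj4 : j < 4 := by
          by_contra h
          have h1 : 2 ^ 4 ≤ q ^ j := (Nat.pow_le_pow_left hq.two_le 4).trans (Nat.pow_le_pow_right hq.pos (by omega))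
          omega
        rcases lt_or_ge p 8 with h | h
        · interval_cases p <;> interval_cases q <;> interval_cases j <;> simp_all
        · refine Or.inr (Or.inr ⟨h, ?_⟩)
          rcases lt_or_ge i p with h' | h'
          · rw [Nat.mod_eq_of_lt h'] at hc; omega
          · omega
      · rcases lt_or_ge p 8 with h | h <;> omega
  rcases hbig with ⟨rfl, h⟩ | ⟨rfl, h⟩ | ⟨h8, h⟩
  · omega
  · omega
  · obtain ⟨t, rfl⟩ : ∃ t, p = t + 8 := ⟨p - 8, by omega⟩
    obtain ⟨s, rfl⟩ : ∃ s, i = s + 7 := ⟨i - 7, by omega⟩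
    rw [show t + 8 - 1 = t + 7 by omega]
    nlinarith

/-- The induction applied to a module given by an action on an elementary abelian group. -/
theorem quot_step {G : Type u} [Group G] {x : G} {W : Type u} [CommGroup W] [Finite W] [Nontrivial W] {q : ℕ}
    [Fact q.Prime] (hexp : ∀ w : W, w ^ q = 1) (φ : G →* MulAut W)
    (hirr : ∀ S : Subgroup W, (∀ g, ∀ w ∈ S, φ g w ∈ S) → S = ⊥ ∨ S = ⊤)
    (hx : x ∉ φ.ker) (hK : φ.ker ≠ ⊥)
    (hquot : ∀ (K : Subgroup G) [K.Normal], K ≠ ⊥ → x ∉ K →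
      ∀ {l : Type} [Field l] {U : Type u} [AddCommGroup U] [Module l U] [FiniteDimensional l U]
        (τ : Representation l (G ⧸ K) U) [τ.IsIrreducible], Function.Injective τ →
        2 * finrank l (LinearMap.ker (τ (QuotientGroup.mk x) - LinearMap.id)) < finrank l U) :
    ∃ a c, Nat.card W = q ^ a ∧ Nat.card {w // φ x w = w} = q ^ c ∧ 2 * c < a := by
  have hq' : ∀ w : Additive W, q • w = 0 := fun w => by
    rw [← ofMul_toMul w, ← ofMul_pow, hexp, ofMul_one]
  letI : Module (ZMod q) (Additive W) := AddCommGroup.zmodModule (n := q) hq'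
  let τ₁ : G →* Module.End (ZMod q) (Additive W) :=
    { toFun := fun g => (MonoidHom.toAdditive (φ g).toMonoidHom).toZModLinearMap q
      map_one' := LinearMap.ext fun w => by
        show Additive.ofMul (φ 1 w.toMul) = w
        rw [map_one]; rfl
      map_mul' := fun g h => LinearMap.ext fun w => by
        show Additive.ofMul (φ (g * h) w.toMul) = Additive.ofMul (φ g (φ h w.toMul))
        rw [map_mul]; rfl }
  let τ₀ : Representation (ZMod q) G (Additive W) := τ₁
  let τ : Representation (ZMod q) (G ⧸ φ.ker) (Additive W) := QuotientGroup.lift φ.ker τ₀ fun g hg =>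
    LinearMap.ext fun w => by
      show Additive.ofMul (φ g w.toMul) = w
      rw [MonoidHom.mem_ker.mp hg]; rfl
  have hτ : ∀ (g : G) (w : W), τ (g : G ⧸ φ.ker) (Additive.ofMul w) = Additive.ofMul (φ g w) := fun g w => rfl
  have hτinj : Function.Injective τ := by
    intro a c h
    obtain ⟨a, rfl⟩ := QuotientGroup.mk_surjective a
    obtain ⟨c, rfl⟩ := QuotientGroup.mk_surjective c
    have h1 : φ a = φ c := MulEquiv.ext fun w => by
      have := LinearMap.congr_fun h (Additive.ofMul w)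
      rwa [hτ, hτ, EmbeddingLike.apply_eq_iff_eq] at this
    exact (QuotientGroup.eq).mpr (MonoidHom.mem_ker.mpr (by rw [map_mul, map_inv, h1, inv_mul_cancel]))
  haveI : τ.IsIrreducible :=
    { exists_pair_ne := ⟨⊥, ⊤, fun h => by
        obtain ⟨w, hw⟩ := exists_ne (0 : Additive W)
        have h' : (⊥ : Submodule (ZMod q) (Additive W)) = ⊤ := congrArg Subrepresentation.toSubmodule h
        exact hw ((Submodule.mem_bot (ZMod q)).mp (h' ▸ Submodule.mem_top))⟩
      eq_bot_or_eq_top := fun S => by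
        rcases hirr S.toSubmodule.toAddSubgroup.toSubgroup' (fun g w hw => by
            have := S.apply_mem_toSubmodule (g : G ⧸ φ.ker) (v := Additive.ofMul w) hw
            rwa [hτ] at this) with h | h
        · refine Or.inl (Subrepresentation.toSubmodule_injective ((Submodule.eq_bot_iff _).mpr fun w hw => ?_))
          have : w.toMul ∈ S.toSubmodule.toAddSubgroup.toSubgroup' := hw
          rw [h, Subgroup.mem_bot] at this
          exact this
        · refine Or.inr (Subrepresentation.toSubmodule_injective (Submodule.eq_top_iff'.mpr fun w => ?_))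
          have : w.toMul ∈ S.toSubmodule.toAddSubgroup.toSubgroup' := h ▸ Subgroup.mem_top _
          exact this }
  have hhalf := hquot φ.ker hK hx τ hτinj
  refine ⟨_, _, ?_, ?_, hhalf⟩
  · have := Module.natCard_eq_pow_finrank (K := ZMod q) (V := Additive W)
    rwa [Nat.card_zmod, Nat.card_congr Additive.toMul] at this
  · have := Module.natCard_eq_pow_finrank (K := ZMod q)
      (V := LinearMap.ker (τ (QuotientGroup.mk x) - LinearMap.id))
    rw [Nat.card_zmod] at this
    rw [← this]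
    refine Nat.card_congr (Equiv.subtypeEquiv Additive.ofMul fun w => ?_)
    rw [LinearMap.mem_ker, LinearMap.sub_apply, sub_eq_zero, hτ, LinearMap.id_apply, EmbeddingLike.apply_eq_iff_eq]

set_option maxHeartbeats 8000000 in
/-- The case in which every abelian normal subgroup is central and the centre acts by scalars. -/
theorem extra_case {G : Type u} [Group G] [Finite G] [Group.IsSolvable G] {p : ℕ} (hp : p.Prime) (hp3 : 3 < p)
    {x : G} (hx : x ^ p = 1) (hgen : Subgroup.normalClosure ({x} : Set G) = ⊤)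
    {k V : Type*} [Field k] [AddCommGroup V] [Module k V] [FiniteDimensional k V] (ρ : Representation k G V)
    [ρ.IsIrreducible] (hρ : Function.Injective ρ)
    (hab : ∀ A : Subgroup G, A.Normal → (∀ a ∈ A, ∀ b ∈ A, a * b = b * a) → ∀ a ∈ A, x * a * x⁻¹ = a)
    (hscal : ∀ z ∈ Subgroup.center G, ∃ c : k, ρ z = c • (1 : Module.End k V))
    (hG : Subgroup.center G ≠ ⊤)
    (hquot : ∀ (K : Subgroup G) [K.Normal], K ≠ ⊥ → x ∉ K →
      ∀ {l : Type} [Field l] {U : Type u} [AddCommGroup U] [Module l U] [FiniteDimensional l U]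
        (τ : Representation l (G ⧸ K) U) [τ.IsIrreducible], Function.Injective τ →
        2 * finrank l (LinearMap.ker (τ (QuotientGroup.mk x) - LinearMap.id)) < finrank l U) :
    2 * finrank k (LinearMap.ker (ρ x - LinearMap.id)) < finrank k V := by
  classical
  -- abelian normal subgroups are central
  have hcent : ∀ A : Subgroup G, A.Normal → (∀ a ∈ A, ∀ b ∈ A, a * b = b * a) → A ≤ Subgroup.center G := by
    intro A hA hAb a ha
    have h : Subgroup.centralizer (A : Set G) = ⊤ := by
      haveI := hA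
      rw [← top_le_iff, ← hgen]
      refine Subgroup.normalClosure_le_normal (Set.singleton_subset_iff.mpr ?_)
      rw [SetLike.mem_coe, Subgroup.mem_centralizer_iff]
      intro b hb
      exact (mul_inv_eq_iff_eq_mul.mp (hab A hA hAb b hb)).symm
    rw [Subgroup.mem_center_iff]
    intro g
    have hg : g ∈ Subgroup.centralizer (A : Set G) := h ▸ Subgroup.mem_top g
    exact (Subgroup.mem_centralizer_iff.mp hg a ha).symm
  -- a minimal noncentral normal subgroup
  obtain ⟨E, ⟨hEn, hEZ⟩, hEmin⟩ := (Set.toFinite {N : Subgroup G | N.Normal ∧ ¬ N ≤ Subgroup.center G}).exists_minimal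
    ⟨⊤, inferInstance, fun h => hG (top_le_iff.mp h)⟩
  haveI := hEn
  have hE0 : E ≠ ⊥ := fun h => hEZ (h ▸ bot_le)
  have hEE : ⁅E, E⁆ ≤ Subgroup.center G := by
    by_contra h
    have hlt := Group.IsSolvable.commutator_lt_of_ne_bot (G := G) hE0
    exact hlt.not_ge (hEmin ⟨inferInstance, h⟩ hlt.le)
  set π := QuotientGroup.mk' (Subgroup.center G) with hπ
  have hπ1 : ∀ a, π a = 1 ↔ a ∈ Subgroup.center G := fun a => QuotientGroup.eq_one_iff a
  set Ē := E.map π with hĒ
  haveI hĒn : Ē.Normal := hEn.map π (QuotientGroup.mk'_surjective _)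
  have hĒc : ∀ a ∈ Ē, ∀ b ∈ Ē, a * b = b * a := by
    rintro _ ⟨a, ha, rfl⟩ _ ⟨b, hb, rfl⟩
    rw [← commutatorElement_eq_one_iff_mul_comm, ← map_commutatorElement, hπ1]
    exact hEE (Subgroup.commutator_mem_commutator ha hb)
  letI : CommGroup Ē := { (inferInstance : Group Ē) with mul_comm := fun a b => Subtype.ext (hĒc a.1 a.2 b.1 b.2) }
  haveI : Fintype Ē := Fintype.ofFinite _
  haveI : Nontrivial Ē := by
    rw [Subgroup.nontrivial_iff_ne_bot]
    intro h
    exact hEZ fun e he => (hπ1 e).mp ((Subgroup.mem_bot).mp (h ▸ Subgroup.mem_map_of_mem π he))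
  -- it is elementary abelian
  obtain ⟨q, hq, hqW⟩ := Nat.exists_prime_and_dvd (n := Nat.card Ē) Finite.one_lt_card.ne'
  haveI := Fact.mk hq
  have hexp : ∀ w : Ē, w ^ q = 1 := by
    let T : Subgroup G :=
      { carrier := {e | e ∈ E ∧ π e ^ q = 1}
        one_mem' := ⟨E.one_mem, by rw [map_one, one_pow]⟩
        mul_mem' := fun {a b} ha hb => ⟨E.mul_mem ha.1 hb.1, by
          rw [map_mul, (show Commute (π a) (π b) from hĒc _ (Subgroup.mem_map_of_mem π ha.1) _
            (Subgroup.mem_map_of_mem π hb.1)).mul_pow, ha.2, hb.2, one_mul]⟩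
        inv_mem' := fun {a} ha => ⟨E.inv_mem ha.1, by rw [map_inv, inv_pow, ha.2, inv_one]⟩ }
    have hTn : T.Normal := ⟨fun a ha g => ⟨hEn.conj_mem a ha.1 g, by
      rw [map_mul, map_mul, map_inv, conj_pow, ha.2, mul_one, mul_inv_cancel]⟩⟩
    have hTZ : ¬ T ≤ Subgroup.center G := by
      obtain ⟨⟨_, e, he, rfl⟩, hw⟩ := exists_prime_orderOf_dvd_card' (G := Ē) q hqW
      intro h
      have he' : e ∈ T := ⟨he, congrArg Subtype.val (hw ▸ pow_orderOf_eq_one (⟨π e, e, he, rfl⟩ : Ē))⟩
      have h1 : (⟨π e, e, he, rfl⟩ : Ē) = 1 := Subtype.ext ((hπ1 e).mpr (h he'))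
      rw [h1, orderOf_one] at hw
      exact hq.ne_one hw.symm
    have hET : E ≤ T := hEmin ⟨hTn, hTZ⟩ (fun e he => he.1)
    rintro ⟨_, e, he, rfl⟩
    exact Subtype.ext (hET he).2
  obtain ⟨b, hb⟩ := (IsPGroup.iff_card).mp (fun w : Ē => (⟨1, by rw [pow_one]; exact hexp w⟩ : ∃ k, w ^ q ^ k = 1))
  -- lifts and conjugation
  have hlift : ∀ w : Ē, ∃ e, e ∈ E ∧ π e = w.1 := fun w => w.2
  choose s hsE hsπ using hlift
  let ad : G → (Module.End k V →ₗ[k] Module.End k V) := fun g =>
    LinearMap.mulLeft k (ρ g) ∘ₗ LinearMap.mulRight k (ρ g⁻¹)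
  have had : ∀ g T, ad g T = ρ g * T * ρ g⁻¹ := fun g T => by simp [ad, mul_assoc]
  have hadmul : ∀ g h T, ad (g * h) T = ad g (ad h T) := fun g h T => by
    simp [had, map_mul, mul_assoc]
  have hgg : ∀ g : G, ρ g⁻¹ * ρ g = 1 := fun g => by rw [← map_mul, inv_mul_cancel, map_one]
  have hgg' : ∀ g : G, ρ g * ρ g⁻¹ = 1 := fun g => by rw [← map_mul, mul_inv_cancel, map_one]
  have hne : ∀ g : G, ρ g ≠ 0 := by
    intro g h
    have hsub : Subsingleton (Module.End k V) := subsingleton_of_zero_eq_one (by rw [← hgg g, h, mul_zero])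
    obtain ⟨z, hz⟩ : ∃ z, z ∉ Subgroup.center G := not_forall.mp fun h' => hG (eq_top_iff.mpr fun z _ => h' z)
    exact hz (hρ (Subsingleton.elim (ρ z) (ρ 1)) ▸ Subgroup.one_mem _)
  have hadZ : ∀ g g', π g = π g' → ∀ T, ad g T = ad g' T := by
    intro g g' h T
    have hz : g'⁻¹ * g ∈ Subgroup.center G := by rw [← hπ1, map_mul, map_inv, h, inv_mul_cancel]
    obtain ⟨c, hc⟩ := hscal _ hz
    obtain ⟨c', hc'⟩ := hscal _ (Subgroup.inv_mem _ hz)
    have hcc : c * c' = 1 := by
      have h1 := hgg' (g'⁻¹ * g)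
      rw [hc, hc', smul_mul_smul_comm, mul_one] at h1
      exact smul_left_injective k (hne 1) (by simpa [map_one] using h1)
    conv_lhs => rw [show g = g' * (g'⁻¹ * g) by group, hadmul]
    congr 1
    rw [had, hc, hc', smul_mul_assoc, one_mul, mul_smul_comm, mul_one, smul_smul, mul_comm c', hcc, one_smul]
  let M : Ē → Module.End k V := fun w => ρ (s w)
  let adW : Ē → (Module.End k V →ₗ[k] Module.End k V) := fun w => ad (s w)
  have hadW : ∀ (w : Ē) g, π g = w.1 → ∀ T, adW w T = ad g T := fun w g h T => hadZ _ _ ((hsπ w).trans h.symm) T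
  have hadWmul : ∀ w v T, adW (w * v) T = adW w (adW v T) := fun w v T => by
    rw [hadW (w * v) (s w * s v) (by rw [map_mul, hsπ, hsπ]; rfl), hadmul]
  have hadW1 : ∀ T, adW 1 T = T := fun T => by
    rw [hadW 1 1 (by rw [map_one]; rfl), had, inv_one, map_one, one_mul, mul_one]
  have hadmulT : ∀ g T S, ad g (T * S) = ad g T * ad g S := fun g T S => by
    rw [had, had, had]
    calc ρ g * (T * S) * ρ g⁻¹ = ρ g * T * ((ρ g⁻¹ * ρ g) * S) * ρ g⁻¹ := by rw [hgg, one_mul, mul_assoc (ρ g) T]
      _ = _ := by simp only [mul_assoc]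
  have hadρ : ∀ g h, ad g (ρ h) = ρ (g * h * g⁻¹) := fun g h => by rw [had, map_mul, map_mul]
  -- the pairing
  have hχex : ∀ w u : Ē, ∃ c : k, adW u (M w) = c • M w := by
    intro w u
    obtain ⟨c, hc⟩ := hscal ⁅s u, s w⁆ (hEE (Subgroup.commutator_mem_commutator (hsE u) (hsE w)))
    refine ⟨c, ?_⟩
    rw [hadρ, show s u * s w * (s u)⁻¹ = ⁅s u, s w⁆ * s w by rw [commutatorElement_def]; group, map_mul, hc,
      smul_mul_assoc, one_mul]
  choose χ hχ using hχex
  have hMne : ∀ w, M w ≠ 0 := fun w => hne _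
  have hχu : ∀ w u u', χ w (u * u') = χ w u * χ w u' := by
    intro w u u'
    refine smul_left_injective k (hMne w) ?_
    show χ w (u * u') • M w = (χ w u * χ w u') • M w
    rw [← hχ, hadWmul, hχ, map_smul, hχ, smul_smul, mul_comm]
  have hχ1 : ∀ w, χ w 1 = 1 := fun w => smul_left_injective k (hMne w)
    (show χ w 1 • M w = (1 : k) • M w by rw [← hχ, hadW1, one_smul])
  have hχw : ∀ w w' u, χ (w * w') u = χ w u * χ w' u := by
    intro w w' u
    have hz : (s (w * w'))⁻¹ * (s w * s w') ∈ Subgroup.center G := by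
      rw [← hπ1, map_mul, map_mul, map_inv, hsπ, hsπ, hsπ]
      exact inv_mul_cancel (w * w' : Ē).1
    obtain ⟨c, hc⟩ := hscal _ hz
    have hMM : M w * M w' = c • M (w * w') := by
      show ρ (s w) * ρ (s w') = c • ρ (s (w * w'))
      rw [← map_mul, show s w * s w' = s (w * w') * ((s (w * w'))⁻¹ * (s w * s w')) by group, map_mul, hc,
        mul_smul_comm, mul_one]
    have hc0 : c ≠ 0 := fun h => hne _ (by rw [hc, h, zero_smul])
    refine smul_left_injective k (smul_ne_zero hc0 (hMne (w * w'))) ?_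
    show χ (w * w') u • c • M (w * w') = (χ w u * χ w' u) • c • M (w * w')
    rw [smul_comm, ← hχ, ← map_smul, ← hMM]
    show ad (s u) (M w * M w') = _
    rw [hadmulT, show ad (s u) (M w) = _ from hχ w u, show ad (s u) (M w') = _ from hχ w' u, smul_mul_smul_comm]
  have hχne : ∀ w u, χ w u ≠ 0 := fun w u h => by
    have := hχ1 w
    rw [← mul_inv_cancel u, hχu, h, zero_mul] at this
    exact zero_ne_one this
  have hχ1' : ∀ u, χ 1 u = 1 := fun u =>
    mul_left_cancel₀ (hχne 1 u) (by rw [← hχw, one_mul, mul_one])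
  have hnd : ∀ w : Ē, w ≠ 1 → ∃ u, χ w u ≠ 1 := by
    intro w hw
    by_contra h
    simp only [not_exists, not_not] at h
    have hc : ∀ e ∈ E, e * s w = s w * e := by
      intro e he
      have h1 := hχ w ⟨π e, e, he, rfl⟩
      rw [h, one_smul, hadW _ e rfl, hadρ] at h1
      exact mul_inv_eq_iff_eq_mul.mp (hρ h1)
    have hmem : s w ∈ E ⊓ Subgroup.centralizer (E : Set G) := ⟨hsE w, Subgroup.mem_centralizer_iff.mpr hc⟩
    have h2 := hcent (E ⊓ Subgroup.centralizer (E : Set G)) inferInstance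
      (fun a ha c' hc' => Subgroup.mem_centralizer_iff.mp hc'.2 a ha.1) hmem
    exact hw (Subtype.ext ((hsπ w).symm.trans ((hπ1 _).mpr h2)))
  have hχsymm : ∀ w, χ w w = 1 := fun w => smul_left_injective k (hMne w)
    (show χ w w • M w = (1 : k) • M w by rw [← hχ, hadρ, one_smul, mul_inv_cancel_right])
  have hnd' : ∀ u : Ē, u ≠ 1 → ∃ w, χ w u ≠ 1 := by
    intro u hu
    by_contra h
    simp only [not_exists, not_not] at h
    obtain ⟨v, hv⟩ := hnd u hu
    have h1 := hχsymm (u * v)
    rw [hχu, hχw, hχw] at h1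
    simp only [hχsymm, h, one_mul, mul_one] at h1
    exact hv h1
  have hqk : (q : k) ≠ 0 := by
    intro h
    haveI : CharP k q := (CharP.charP_iff_prime_eq_zero hq).mpr h
    obtain ⟨w, hw⟩ := exists_ne (1 : Ē)
    obtain ⟨u, hu⟩ := hnd w hw
    have h1 : χ w u ^ q = 1 := by
      have : ∀ n : ℕ, χ w (u ^ n) = χ w u ^ n := by
        intro n
        induction n with
        | zero => rw [pow_zero, pow_zero, hχ1]
        | succ n ih => rw [pow_succ, hχu, ih, pow_succ]
      rw [← this, hexp, hχ1]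
    have h2 : (χ w u - 1) ^ q = 0 := by rw [sub_pow_char, h1, one_pow, sub_self]
    exact hu (sub_eq_zero.mp (eq_zero_of_pow_eq_zero h2))
  set n := Nat.card Ē with hn
  have hn0 : (n : k) ≠ 0 := by
    rw [hb, Nat.cast_pow]; exact pow_ne_zero _ hqk
  have hncard : Fintype.card Ē = n := Nat.card_eq_fintype_card.symm
  -- the projections
  let Ψ : Ē → (Module.End k V →ₗ[k] Module.End k V) := fun w => (n : k)⁻¹ • ∑ u, (χ w u)⁻¹ • adW u
  have hΨ : ∀ w T, Ψ w T = (n : k)⁻¹ • ∑ u, (χ w u)⁻¹ • adW u T := fun w T => by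
    simp [Ψ, LinearMap.sum_apply]
  have hΨfix : ∀ w T, (∀ u, adW u T = χ w u • T) → Ψ w T = T := by
    intro w T h
    rw [hΨ]
    simp only [h, smul_smul, inv_mul_cancel₀ (hχne w _), one_smul]
    rw [Finset.sum_const, Finset.card_univ, hncard, ← Nat.cast_smul_eq_nsmul k, smul_smul, inv_mul_cancel₀ hn0, one_smul]
  have hΨeig : ∀ w T u, adW u (Ψ w T) = χ w u • Ψ w T := by
    intro w T u
    rw [hΨ, map_smul, map_sum, smul_comm (χ w u), Finset.smul_sum (r := χ w u)]
    congr 1
    rw [← Equiv.sum_comp (Equiv.mulLeft u) (fun v => χ w u • ((χ w v)⁻¹ • adW v T))]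
    refine Finset.sum_congr rfl fun v _ => ?_
    rw [map_smul, Equiv.coe_mulLeft, hχu, ← hadWmul, smul_smul, mul_inv, ← mul_assoc,
      mul_inv_cancel₀ (hχne w u), one_mul]
  have hΨne : ∀ w v T, w ≠ v → Ψ w (Ψ v T) = 0 := by
    intro w v T hwv
    rw [hΨ w]
    simp only [hΨeig, smul_smul]
    rw [← Finset.sum_smul, sum_char_eq_zero (fun u => (χ w u)⁻¹ * χ v u)
      (fun a c => by simp only [hχu, mul_inv]; ring) (a := (hnd (w⁻¹ * v) (fun h => hwv (inv_mul_eq_one.mp h))).choose) ?_,
      zero_smul, smul_zero]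
    intro h
    refine (hnd (w⁻¹ * v) (fun h => hwv (inv_mul_eq_one.mp h))).choose_spec ?_
    set u := (hnd (w⁻¹ * v) (fun h => hwv (inv_mul_eq_one.mp h))).choose
    have hwi : χ w⁻¹ u = (χ w u)⁻¹ := eq_inv_of_mul_eq_one_left (by rw [← hχw, inv_mul_cancel, hχ1'])
    rw [hχw, hwi]
    exact h
  have hΨsum : ∀ T, ∑ w, Ψ w T = T := by
    intro T
    simp only [hΨ]
    rw [← Finset.smul_sum, Finset.sum_comm]
    simp only [← Finset.sum_smul]
    rw [Finset.sum_eq_single 1]
    · simp only [hχ1, inv_one, Finset.sum_const, Finset.card_univ, hncard, nsmul_eq_mul, mul_one, hadW1]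
      rw [smul_smul, inv_mul_cancel₀ hn0, one_smul]
    · intro u _ hu
      obtain ⟨w, hw⟩ := hnd' u hu
      rw [sum_char_eq_zero (fun w => (χ w u)⁻¹) (fun a c => by simp only [hχw, mul_inv]) (a := w)
        (fun h => hw (inv_eq_one.mp h)), zero_smul]
    · exact fun h => absurd (Finset.mem_univ _) h
  -- all the ranges have the same dimension
  set d := finrank k (LinearMap.range (Ψ 1)) with hd
  have hdd : ∀ w, finrank k (LinearMap.range (Ψ w)) = d := by
    intro w
    let L : Module.End k V ≃ₗ[k] Module.End k V :=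
      LinearEquiv.ofLinearMap (LinearMap.mulLeft k (M w)) (LinearMap.mulLeft k (ρ (s w)⁻¹))
        (LinearMap.ext fun T => by simp [M, ← mul_assoc, hgg'])
        (LinearMap.ext fun T => by simp [M, ← mul_assoc, hgg])
    have himg : LinearMap.range (Ψ w) = Submodule.map (L : Module.End k V →ₗ[k] Module.End k V) (LinearMap.range (Ψ 1)) := by
      ext T
      constructor
      · rintro ⟨S, rfl⟩
        refine ⟨ρ (s w)⁻¹ * Ψ w S, ⟨ρ (s w)⁻¹ * Ψ w S, hΨfix 1 _ fun u => ?_⟩, ?_⟩
        · rw [hχ1', one_smul]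
          have h1 : ad (s u) (ρ (s w)⁻¹) = (χ w u)⁻¹ • ρ (s w)⁻¹ := by
            have h2 : ad (s u) (ρ (s w)⁻¹) * (χ w u • M w) = 1 := by
              rw [← hχ]
              show ad (s u) _ * ad (s u) (ρ (s w)) = 1
              rw [← hadmulT, hgg, had, mul_one, hgg']
            have h3 := congrArg (fun T => T * ρ (s w)⁻¹) h2
            simp only [one_mul, mul_smul_comm, smul_mul_assoc, mul_assoc, M, hgg', mul_one] at h3
            conv_rhs => rw [← h3]
            rw [smul_smul, inv_mul_cancel₀ (hχne w u), one_smul]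
          show ad (s u) _ = _
          rw [hadmulT, h1, show ad (s u) (Ψ w S) = _ from hΨeig w S u, smul_mul_smul_comm,
            inv_mul_cancel₀ (hχne w u), one_smul]
        · show M w * (ρ (s w)⁻¹ * Ψ w S) = Ψ w S
          rw [← mul_assoc, hgg', one_mul]
      · rintro ⟨_, ⟨S, rfl⟩, rfl⟩
        refine ⟨M w * Ψ 1 S, hΨfix w _ fun u => ?_⟩
        show ad (s u) (M w * Ψ 1 S) = χ w u • (M w * Ψ 1 S)
        rw [hadmulT, show ad (s u) (M w) = _ from hχ w u, show ad (s u) (Ψ 1 S) = _ from hΨeig 1 S u, hχ1', one_smul,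
          smul_mul_assoc]
    rw [himg, LinearEquiv.finrank_map_eq]
  have hdpos : 0 < d := by
    refine Module.finrank_pos_iff_exists_ne_zero.mpr ⟨⟨1, 1, hΨfix 1 1 fun u => ?_⟩, fun h => ?_⟩
    · rw [hχ1', one_smul]
      show ad (s u) 1 = 1
      rw [had, mul_one, hgg']
    · have : (1 : Module.End k V) = 0 := congrArg Subtype.val h
      rw [← map_one ρ] at this
      exact hne 1 this
  have hnd2 : n * d ≤ finrank k V * finrank k V := by
    have h := sum_ge Ψ (fun i j T hij => hΨne i j T hij) (fun i T => hΨfix i _ (hΨeig i T))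
    simp only [hdd, Finset.sum_const, Finset.card_univ, hncard, smul_eq_mul, Module.finrank_linearMap] at h
    exact h
  -- the action on the factor
  let φ : G →* MulAut Ē := (MulAut.conjNormal (H := Ē)).comp π
  have hφ : ∀ g w, (φ g w).1 = π g * w.1 * (π g)⁻¹ := fun g w => MulAut.conjNormal_apply _ _
  have hxK : x ∉ φ.ker := by
    intro h
    have htop : φ.ker = ⊤ := by
      rw [← top_le_iff, ← hgen]
      exact Subgroup.normalClosure_le_normal (Set.singleton_subset_iff.mpr h)
    have hGE : ⁅(⊤ : Subgroup G), E⁆ ≤ Subgroup.center G := by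
      rw [Subgroup.commutator_le]
      intro g _ e he
      rw [← hπ1, map_commutatorElement, commutatorElement_eq_one_iff_mul_comm]
      have hg : φ g = 1 := MonoidHom.mem_ker.mp (htop ▸ Subgroup.mem_top g)
      have h1 := hφ g ⟨π e, e, he, rfl⟩
      rw [hg, MulAut.one_apply] at h1
      exact (mul_inv_eq_iff_eq_mul.mp h1.symm)
    have hc1 : ⁅⁅(⊤ : Subgroup G), E⁆, (⊤ : Subgroup G)⁆ = ⊥ := by
      rw [Subgroup.commutator_eq_bot_iff_le_centralizer, Subgroup.coe_top, Subgroup.centralizer_univ]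
      exact hGE
    have hc2 : ⁅⁅E, (⊤ : Subgroup G)⁆, (⊤ : Subgroup G)⁆ = ⊥ := by rw [Subgroup.commutator_comm E ⊤]; exact hc1
    have hc3 := Subgroup.commutator_commutator_eq_bot_of_rotate hc1 hc2
    rw [Subgroup.commutator_eq_bot_iff_le_centralizer] at hc3
    set CE := Subgroup.centralizer (E : Set G)
    have hcyc : IsCyclic (G ⧸ CE) := by
      have hcomm : ∀ a c : G ⧸ CE, a * c = c * a := by
        intro a c
        obtain ⟨a, rfl⟩ := QuotientGroup.mk_surjective a
        obtain ⟨c, rfl⟩ := QuotientGroup.mk_surjective c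
        rw [← commutatorElement_eq_one_iff_mul_comm]
        show ⁅QuotientGroup.mk' CE a, QuotientGroup.mk' CE c⁆ = 1
        rw [← map_commutatorElement]
        exact (QuotientGroup.eq_one_iff _).mpr (hc3 (Subgroup.commutator_mem_commutator (Subgroup.mem_top a) (Subgroup.mem_top c)))
      let Zx := (Subgroup.zpowers (QuotientGroup.mk' CE x)).comap (QuotientGroup.mk' CE)
      haveI : (Subgroup.zpowers (QuotientGroup.mk' CE x)).Normal := ⟨fun a ha g => by rwa [hcomm g a, mul_inv_cancel_right]⟩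
      have hZ : Zx = ⊤ := by
        rw [← top_le_iff, ← hgen]
        haveI : Zx.Normal := Subgroup.Normal.comap inferInstance _
        exact Subgroup.normalClosure_le_normal (Set.singleton_subset_iff.mpr (Subgroup.mem_zpowers (QuotientGroup.mk' CE x)))
      refine ⟨⟨QuotientGroup.mk' CE x, fun a => ?_⟩⟩
      obtain ⟨a, rfl⟩ := QuotientGroup.mk_surjective a
      exact (hZ ▸ Subgroup.mem_top a : a ∈ Zx)
    have hEc := commutative_of_cyclic_center_quotient ((QuotientGroup.mk' CE).comp E.subtype) (by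
      intro e he
      rw [MonoidHom.mem_ker, MonoidHom.comp_apply, QuotientGroup.mk'_apply, QuotientGroup.eq_one_iff] at he
      rw [Subgroup.mem_center_iff]
      exact fun e' => Subtype.ext (Subgroup.mem_centralizer_iff.mp he e'.1 e'.2))
    exact hEZ (hcent E hEn fun a ha c hc => congrArg Subtype.val (hEc ⟨a, ha⟩ ⟨c, hc⟩))
  have hK0 : φ.ker ≠ ⊥ := by
    intro h
    refine hE0 (le_bot_iff.mp (h ▸ fun e he => MonoidHom.mem_ker.mpr (MulEquiv.ext fun w => Subtype.ext ?_)))
    rw [hφ, MulAut.one_apply, mul_inv_eq_iff_eq_mul]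
    exact hĒc _ (Subgroup.mem_map_of_mem π he) _ w.2
  have hirr : ∀ S : Subgroup Ē, (∀ g, ∀ w ∈ S, φ g w ∈ S) → S = ⊥ ∨ S = ⊤ := by
    intro S hS
    let L : Subgroup G := (S.map Ē.subtype).comap π ⊓ E
    have hLn : L.Normal := ⟨by
      rintro e ⟨⟨w, hw, hwe⟩, he⟩ g
      refine ⟨⟨φ g w, hS g w hw, ?_⟩, hEn.conj_mem e he g⟩
      show (φ g w).1 = π (g * e * g⁻¹)
      rw [hφ, map_mul, map_mul, map_inv, ← hwe]
      rfl⟩
    by_cases hL : L ≤ Subgroup.center G
    · refine Or.inl ((Subgroup.eq_bot_iff_forall S).mpr fun w hw => ?_)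
      obtain ⟨e, he, hew⟩ := w.2
      have he' : e ∈ L := ⟨⟨w, hw, hew.symm⟩, he⟩
      exact Subtype.ext (hew.symm.trans ((hπ1 e).mpr (hL he')))
    · have hEL : E ≤ L := hEmin ⟨hLn, hL⟩ inf_le_right
      refine Or.inr (eq_top_iff.mpr fun w _ => ?_)
      obtain ⟨e, he, hew⟩ := w.2
      obtain ⟨w', hw', hwe⟩ := (hEL he).1
      have : w' = w := Subtype.ext (hwe.trans hew)
      exact this ▸ hw'
  obtain ⟨a, cW, hWcard, hFcard', hhalf⟩ := quot_step hexp φ hirr hxK hK0 hquot
  rw [← hn] at hWcard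
  let σ : Equiv.Perm Ē := (φ x).toEquiv
  have hFcard : Nat.card {w : Ē // σ w = w} = q ^ cW := hFcard'
  have ha2 : 2 ≤ a := by
    by_contra h
    have hcy : ∀ (w w' : Ē), w ≠ 1 → ∃ i : ℕ, w ^ i = w' := by
      intro w w' hw
      have ho : orderOf w = q := orderOf_eq_prime (hexp w) hw
      have hle : q ^ a ≤ q ^ 1 := Nat.pow_le_pow_right hq.pos (by omega)
      have hz : Subgroup.zpowers w = ⊤ := by
        refine Subgroup.eq_top_of_card_eq _ (le_antisymm (Subgroup.card_le_card_group _) ?_)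
        rw [Nat.card_zpowers, ho]
        show n ≤ q
        rw [hWcard]; simpa using hle
      exact mem_powers_iff_mem_zpowers.mpr (hz ▸ Subgroup.mem_top w' : w' ∈ Subgroup.zpowers w)
    obtain ⟨w, hw⟩ := exists_ne (1 : Ē)
    obtain ⟨u, hu⟩ := hnd w hw
    obtain ⟨i, rfl⟩ := hcy w u hw
    refine hu ?_
    clear hu
    induction i with
    | zero => rw [pow_zero, hχ1]
    | succ i ih => rw [pow_succ, hχu, ih, hχsymm, mul_one]
  -- counting
  have hσp : σ ^ p = 1 := by
    have h : ∀ i : ℕ, ∀ w, (σ ^ i) w = φ (x ^ i) w := by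
      intro i
      induction i with
      | zero => intro w; simp
      | succ i ih => intro w; rw [pow_succ', Equiv.Perm.mul_apply, ih, pow_succ', map_mul]; rfl
    ext1 w
    rw [h, hx, map_one]
    rfl
  obtain ⟨S, hS, hcard⟩ := exists_reps σ hp hσp
  rw [hFcard, show Nat.card Ē = q ^ a from hWcard] at hcard
  obtain ⟨j, hj⟩ : ∃ j, a = cW + j := Nat.exists_eq_add_of_le (by omega)
  have hj2 : 2 ≤ j := by omega
  have hi : 4 * S.card ≤ q ^ a := by
    have hcong : q ≠ p → q ^ j % p = 1 := by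
      intro hne
      have h1 : p ∣ q ^ cW * (q ^ j - 1) := by
        refine (Nat.dvd_add_left (dvd_mul_right p (q ^ cW))).mp ⟨S.card, ?_⟩
        rw [hcard, hj, pow_add, Nat.mul_sub_one]
        have h2 : q ^ cW ≤ q ^ cW * q ^ j := Nat.le_mul_of_pos_right _ (pow_pos hq.pos _)
        have h3 : (p - 1) * q ^ cW + q ^ cW = p * q ^ cW := by
          rw [← Nat.succ_mul, Nat.succ_eq_add_one, Nat.sub_add_cancel hp.pos]
        omega
      have hcop : Nat.Coprime p (q ^ cW) := Nat.Coprime.pow_right _ ((Nat.coprime_primes hp hq).mpr (Ne.symm hne))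
      have h4 := hcop.dvd_of_dvd_mul_left h1
      have h5 : q ^ j ≡ 1 [MOD p] := ((Nat.modEq_iff_dvd' (Nat.one_le_pow _ _ hq.pos)).mpr h4).symm
      rw [h5, Nat.mod_eq_of_lt (by omega)]
    have h6 := orbit_arith hp hp3 hq hj2 rfl hcong
    have h7 : p * (4 * S.card) ≤ p * q ^ a := by
      rw [mul_left_comm, hcard, hj, pow_add]
      calc 4 * (q ^ cW * q ^ j + (p - 1) * q ^ cW) = q ^ cW * (4 * (p - 1 + q ^ j)) := by ring
        _ ≤ q ^ cW * (p * q ^ j) := Nat.mul_le_mul_left _ h6
        _ = p * (q ^ cW * q ^ j) := by ring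
    exact Nat.le_of_mul_le_mul_left h7 hp.pos
  -- the centraliser of `x` in the endomorphisms
  set F := LinearMap.ker (ad x - LinearMap.id)
  have hFS : finrank k F ≤ S.card * d := by
    refine fixed_le Ψ σ (ad x) ?_ ?_ S hS d (fun w => (hdd w).le)
    · intro w T
      have hconj : ∀ u T, ad x (adW u T) = adW (φ x u) (ad x T) := by
        intro u T
        rw [hadW (φ x u) (x * s u * x⁻¹) (by rw [hφ, map_mul, map_mul, map_inv, hsπ]), ← hadmul, ← hadmul,
          inv_mul_cancel_right]
      have hchi : ∀ u, χ (φ x w) (φ x u) = χ w u := by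
        intro u
        have hz : (s (φ x w))⁻¹ * (x * s w * x⁻¹) ∈ Subgroup.center G := by
          rw [← hπ1, map_mul, map_inv, map_mul, map_mul, map_inv, hsπ, hsπ, hφ]
          group
        obtain ⟨c, hc⟩ := hscal _ hz
        have hM : ad x (M w) = c • M (φ x w) := by
          show ad x (ρ (s w)) = _
          rw [hadρ, show x * s w * x⁻¹ = s (φ x w) * ((s (φ x w))⁻¹ * (x * s w * x⁻¹)) by group, map_mul, hc,
            mul_smul_comm, mul_one]
        have hc0 : c ≠ 0 := fun h => hne _ (by rw [hc, h, zero_smul])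
        refine smul_left_injective k (smul_ne_zero hc0 (hMne (φ x w))) ?_
        show χ (φ x w) (φ x u) • c • M (φ x w) = χ w u • c • M (φ x w)
        rw [smul_comm, ← hχ, ← map_smul, ← hM, ← hconj, hχ, map_smul]
      show Ψ (φ x w) (ad x T) = ad x (Ψ w T)
      rw [hΨ, hΨ, map_smul, map_sum]
      congr 1
      rw [← Equiv.sum_comp (φ x).toEquiv]
      refine Finset.sum_congr rfl fun u _ => ?_
      rw [map_smul, hconj]
      show (χ (φ x w) (φ x u))⁻¹ • _ = _
      rw [hchi]
      rfl
    · intro T hT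
      rw [← hΨsum T]
      exact Finset.sum_eq_zero fun w _ => hT w
  have hF : finrank k (LinearMap.ker (ρ x - LinearMap.id)) * finrank k (LinearMap.ker (ρ x - LinearMap.id)) + 1
      ≤ finrank k F := by
    refine sq_lt_fixed (ρ x) (fun h => ?_) F (fun T h1 h2 => ?_) ?_
    · refine hxK (MonoidHom.mem_ker.mpr ?_)
      rw [hρ (h.trans (map_one ρ).symm), map_one]
    · rw [LinearMap.mem_ker, LinearMap.sub_apply, sub_eq_zero, had]
      show ρ x * T * ρ x⁻¹ = T
      rw [show ρ x * T = T from h1]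
      conv_lhs => rw [← (show T * ρ x = T from h2)]
      rw [mul_assoc, hgg', mul_one]
    · rw [LinearMap.mem_ker, LinearMap.sub_apply, sub_eq_zero, had]
      show ρ x * 1 * ρ x⁻¹ = 1
      rw [mul_one, hgg']
  set c := finrank k (LinearMap.ker (ρ x - LinearMap.id))
  set N := finrank k V
  by_contra hlt
  have h8 : N * N ≤ 4 * (c * c) := by
    calc N * N ≤ (2 * c) * (2 * c) := Nat.mul_le_mul (not_lt.mp hlt) (not_lt.mp hlt)
      _ = 4 * (c * c) := by ring
  have h9 : 4 * S.card * d ≤ q ^ a * d := Nat.mul_le_mul_right _ hi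
  rw [mul_assoc] at h9
  rw [hWcard] at hnd2
  omega

end CfsgLib.FixedHalf
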