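import Cfsg.Agent.Lib.FixedHalf.Extra

/-! Fixed space of an element of prime order generating a solvable group as a normal subgroup. -/

set_option autoImplicit false

namespace CfsgLib.FixedHalf

open Module

universe u

set_option maxHeartbeats 2000000 in
set_option synthInstance.maxHeartbeats 400000 in
/-- The inductive step. -/
theorem half_step {G : Type u} [Group G] [Finite G] [Group.IsSolvable G] {p : ℕ} (hp : p.Prime) (hp3 : 3 < p)
    {x : G} (hx : x ^ p = 1) (hx1 : x ≠ 1) (hgen : Subgroup.normalClosure ({x} : Set G) = ⊤)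
    {k V : Type*} [Field k] [AddCommGroup V] [Module k V] [FiniteDimensional k V] (ρ : Representation k G V)
    [ρ.IsIrreducible] (hρ : Function.Injective ρ)
    (hquot : ∀ (K : Subgroup G) [K.Normal], K ≠ ⊥ → x ∉ K →
      ∀ {l : Type} [Field l] {U : Type u} [AddCommGroup U] [Module l U] [FiniteDimensional l U]
        (τ : Representation l (G ⧸ K) U) [τ.IsIrreducible], Function.Injective τ →
        2 * finrank l (LinearMap.ker (τ (QuotientGroup.mk x) - LinearMap.id)) < finrank l U) :
    2 * finrank k (LinearMap.ker (ρ x - LinearMap.id)) < finrank k V := by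
  classical
  haveI : Nontrivial V := by
    by_contra h
    rw [not_nontrivial_iff_subsingleton] at h
    exact hx1 (hρ (Subsingleton.elim _ _))
  by_cases hab : ∃ A : Subgroup G, A.Normal ∧ (∀ a ∈ A, ∀ b ∈ A, a * b = b * a) ∧ ∃ a ∈ A, x * a * x⁻¹ ≠ a
  · obtain ⟨A, hAn, hA, hxA⟩ := hab
    exact abelian_case hp hp3 hx hgen ρ hρ hA hxA
  simp only [not_exists, not_and, not_not] at hab
  by_cases hG : Subgroup.center G = ⊤
  · -- `x` is central
    have hinv : ∀ g, ∀ v ∈ LinearMap.ker (ρ x - LinearMap.id), ρ g v ∈ LinearMap.ker (ρ x - LinearMap.id) := by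
      intro g v hv
      rw [LinearMap.mem_ker, LinearMap.sub_apply, sub_eq_zero, LinearMap.id_apply] at hv ⊢
      have hgx : g * x = x * g := Subgroup.mem_center_iff.mp (hG ▸ Subgroup.mem_top x) g
      rw [← Module.End.mul_apply, ← map_mul, ← hgx, map_mul, Module.End.mul_apply, hv]
    rcases bot_or_top ρ _ hinv with h | h
    · rw [h, finrank_bot, mul_zero]; exact Module.finrank_pos
    · exfalso
      refine hx1 (hρ ?_)
      rw [map_one]
      refine LinearMap.ext fun v => ?_
      have hv : v ∈ LinearMap.ker (ρ x - LinearMap.id) := h ▸ Submodule.mem_top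
      exact sub_eq_zero.mp (LinearMap.mem_ker.mp hv)
  -- extend the scalars by the centre
  set K : Subalgebra k (Module.End k V) := Algebra.adjoin k (ρ '' (Subgroup.center G : Set G)) with hK
  have hKc : ∀ r ∈ K, ∀ g, r * ρ g = ρ g * r := by
    intro r hr
    induction hr using Algebra.adjoin_induction with
    | mem r hr =>
      obtain ⟨z, hz, rfl⟩ := hr
      intro g
      rw [← map_mul, ← map_mul, Subgroup.mem_center_iff.mp hz g]
    | algebraMap c => exact fun g => Algebra.commutes c _
    | add r t _ _ h1 h2 => intro g; rw [mul_add, add_mul, h1 g, h2 g]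
    | mul r t _ _ h1 h2 => intro g; rw [mul_assoc, h2 g, ← mul_assoc, h1 g, mul_assoc]
  have hKK : ∀ r ∈ K, ∀ s ∈ K, r * s = s * r := by
    intro r hr s hs
    induction hs using Algebra.adjoin_induction with
    | mem s hs => obtain ⟨z, -, rfl⟩ := hs; exact hKc r hr z
    | algebraMap c => exact (Algebra.commutes c r).symm
    | add s t _ _ h1 h2 => rw [mul_add, add_mul, h1, h2]
    | mul s t _ _ h1 h2 => rw [← mul_assoc, h1, mul_assoc, h2, mul_assoc]
  letI : CommRing K := { K.toRing with mul_comm := fun a b => Subtype.ext (hKK a.1 a.2 b.1 b.2) }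
  have hinj : ∀ r : K, r ≠ 0 → ∀ v, r.1 v = 0 → v = 0 := by
    intro r hr v hv
    have hinv : ∀ g, ∀ w ∈ LinearMap.ker r.1, ρ g w ∈ LinearMap.ker r.1 := by
      intro g w hw
      rw [LinearMap.mem_ker] at hw ⊢
      rw [← Module.End.mul_apply, hKc r.1 r.2 g, Module.End.mul_apply, hw, map_zero]
    rcases bot_or_top ρ _ hinv with h | h
    · exact (Submodule.mem_bot k).mp (h ▸ LinearMap.mem_ker.mpr hv)
    · exact absurd (Subtype.ext (LinearMap.ker_eq_top.mp h)) hr
  have hfield : IsField K := by
    refine ⟨⟨0, 1, fun h => ?_⟩, mul_comm, fun {r} hr => ?_⟩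
    · obtain ⟨v, hv⟩ := exists_ne (0 : V)
      exact hv (LinearMap.congr_fun (congrArg Subtype.val h) v).symm
    · let L : K →ₗ[k] K := LinearMap.mulLeft k r
      have hL : Function.Injective L := by
        rw [← LinearMap.ker_eq_bot, LinearMap.ker_eq_bot']
        intro s hs
        refine Subtype.ext (LinearMap.ext fun v => hinj r hr _ ?_)
        exact LinearMap.congr_fun (congrArg Subtype.val hs) v
      obtain ⟨s, hs⟩ := (LinearMap.injective_iff_surjective.mp hL) 1
      exact ⟨s, hs⟩
  letI : Field K := hfield.toField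
  have hsmul : ∀ (r : K) (v : V), r • v = r.1 v := fun r v => rfl
  let ρK : Representation K G V :=
    { toFun := fun g =>
        { toFun := fun v => ρ g v
          map_add' := fun a b => map_add _ a b
          map_smul' := fun r v => by
            rw [RingHom.id_apply, hsmul, hsmul, ← Module.End.mul_apply, ← Module.End.mul_apply, hKc r.1 r.2 g] }
      map_one' := LinearMap.ext fun v => by
        show ρ 1 v = v
        rw [map_one]; rfl
      map_mul' := fun g h => LinearMap.ext fun v => by
        show ρ (g * h) v = ρ g (ρ h v)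
        rw [map_mul]; rfl }
  have hρK : ∀ g v, ρK g v = ρ g v := fun g v => rfl
  haveI : ρK.IsIrreducible :=
    { exists_pair_ne := ⟨⊥, ⊤, fun h => by
        obtain ⟨w, hw⟩ := exists_ne (0 : V)
        have h' : (⊥ : Submodule K V) = ⊤ := congrArg Subrepresentation.toSubmodule h
        exact hw ((Submodule.mem_bot K).mp (h' ▸ Submodule.mem_top))⟩
      eq_bot_or_eq_top := fun S => by
        rcases bot_or_top ρ (S.toSubmodule.restrictScalars k) (fun g v hv => S.apply_mem_toSubmodule g hv) with h | h
        · exact Or.inl (Subrepresentation.toSubmodule_injective ((Submodule.restrictScalars_eq_bot_iff _ _ _).mp h))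
        · exact Or.inr (Subrepresentation.toSubmodule_injective ((Submodule.restrictScalars_eq_top_iff _ _ _).mp h)) }
  haveI : FiniteDimensional K V := FiniteDimensional.right k K V
  have hρKinj : Function.Injective ρK := fun a b h => hρ (LinearMap.ext fun v => LinearMap.congr_fun h v)
  have hab' : ∀ A : Subgroup G, A.Normal → (∀ a ∈ A, ∀ b ∈ A, a * b = b * a) → ∀ a ∈ A, x * a * x⁻¹ = a := hab
  have hscal : ∀ z ∈ Subgroup.center G, ∃ c : K, ρK z = c • (1 : Module.End K V) := fun z hz =>
    ⟨⟨ρ z, Algebra.subset_adjoin ⟨z, hz, rfl⟩⟩, LinearMap.ext fun v => rfl⟩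
  have h := extra_case hp hp3 hx hgen ρK hρKinj hab' hscal hG hquot
  have hker : (LinearMap.ker (ρK x - LinearMap.id)).restrictScalars k = LinearMap.ker (ρ x - LinearMap.id) := by
    ext v
    simp [hρK]
  have h1 : finrank k K * finrank K V = finrank k V := Module.finrank_mul_finrank k K V
  have h2 : finrank k K * finrank K (LinearMap.ker (ρK x - LinearMap.id)) =
      finrank k (LinearMap.ker (ρ x - LinearMap.id)) := by
    rw [← hker, ← LinearEquiv.finrank_eq (Submodule.restrictScalarsEquiv k K V (LinearMap.ker (ρK x - LinearMap.id)))]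
    exact Module.finrank_mul_finrank k K ((LinearMap.ker (ρK x - LinearMap.id)).restrictScalars k)
  have hpos : 0 < finrank k K := Module.finrank_pos
  rw [← h1, ← h2, mul_left_comm]
  exact Nat.mul_lt_mul_of_pos_left h hpos

/-- The bound for a small field and a representation in the universe of the group. -/
theorem half_small {p : ℕ} (hp : p.Prime) (hp3 : 3 < p) (n : ℕ) :
    ∀ (G : Type u) [Group G] [Finite G] [Group.IsSolvable G], Nat.card G ≤ n → ∀ (x : G), x ^ p = 1 → x ≠ 1 →
      Subgroup.normalClosure ({x} : Set G) = ⊤ →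
      ∀ {l : Type} [Field l] {U : Type u} [AddCommGroup U] [Module l U] [FiniteDimensional l U]
        (τ : Representation l G U) [τ.IsIrreducible], Function.Injective τ →
        2 * finrank l (LinearMap.ker (τ x - LinearMap.id)) < finrank l U := by
  induction n using Nat.strong_induction_on with
  | _ n ih =>
    intro G _ _ _ hn x hx hx1 hgen l _ U _ _ _ τ _ hτ
    refine half_step hp hp3 hx hx1 hgen τ hτ ?_
    intro K _ hK hxK
    intro l' _ U' _ _ _ τ' _ hτ'
    have hlt : Nat.card (G ⧸ K) < n := by
      refine lt_of_lt_of_le ?_ hn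
      rw [Subgroup.card_eq_card_quotient_mul_card_subgroup K]
      exact lt_mul_of_one_lt_right Nat.card_pos ((Subgroup.one_lt_card_iff_ne_bot K).mpr hK)
    refine ih _ hlt (G ⧸ K) le_rfl _ ?_ ?_ ?_ τ' hτ'
    · rw [← QuotientGroup.mk_pow, hx, QuotientGroup.mk_one]
    · rwa [Ne, QuotientGroup.eq_one_iff]
    · have := Subgroup.map_normalClosure ({x} : Set G) (QuotientGroup.mk' K) (QuotientGroup.mk'_surjective K)
      rw [hgen, Subgroup.map_top_of_surjective _ (QuotientGroup.mk'_surjective K), Set.image_singleton] at this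
      exact this.symm

/-- A generator of prime order `p > 3` of a solvable group fixes less than half of an irreducible module. -/
theorem half {G : Type u} [Group G] [Finite G] [Group.IsSolvable G] {p : ℕ} (hp : p.Prime) (hp3 : 3 < p)
    {x : G} (hx : x ^ p = 1) (hx1 : x ≠ 1) (hgen : Subgroup.normalClosure ({x} : Set G) = ⊤)
    {k V : Type*} [Field k] [AddCommGroup V] [Module k V] [FiniteDimensional k V] (ρ : Representation k G V)
    [ρ.IsIrreducible] (hρ : Function.Injective ρ) :
    2 * finrank k (LinearMap.ker (ρ x - LinearMap.id)) < finrank k V := by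
  refine half_step hp hp3 hx hx1 hgen ρ hρ ?_
  intro K _ hK hxK
  intro l' _ U' _ _ _ τ' _ hτ'
  refine half_small hp hp3 _ (G ⧸ K) le_rfl _ ?_ ?_ ?_ τ' hτ'
  · rw [← QuotientGroup.mk_pow, hx, QuotientGroup.mk_one]
  · rwa [Ne, QuotientGroup.eq_one_iff]
  · have := Subgroup.map_normalClosure ({x} : Set G) (QuotientGroup.mk' K) (QuotientGroup.mk'_surjective K)
    rw [hgen, Subgroup.map_top_of_surjective _ (QuotientGroup.mk'_surjective K), Set.image_singleton] at this
    exact this.symm

end CfsgLib.FixedHalf
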