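import Mathlib

/-! Fixed points of an element of prime order in a transitive solvable group generated by its conjugates. -/

set_option autoImplicit false

namespace CfsgLib.FixedHalf

open Subgroup
open scoped commutatorElement

universe u

/-- Representatives for the cycles of a permutation of prime order. -/
theorem exists_reps {Ω : Type*} [Finite Ω] (σ : Equiv.Perm Ω) {p : ℕ} (hp : p.Prime) (hσ : σ ^ p = 1) :
    ∃ S : Finset Ω, (∀ ω, ∃ (i : ℕ), ∃ s ∈ S, ω = (σ ^ i) s) ∧
      p * S.card = Nat.card Ω + (p - 1) * Nat.card {ω : Ω // σ ω = ω} := by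
  classical
  haveI := Fintype.ofFinite Ω
  suffices key : ∀ (m : ℕ) (T : Finset Ω), T.card = m → (∀ ω ∈ T, σ ω ∈ T) →
      ∃ S : Finset Ω, S ⊆ T ∧ (∀ ω ∈ T, ∃ (i : ℕ), ∃ s ∈ S, ω = (σ ^ i) s) ∧
        p * S.card ≤ T.card + (p - 1) * (T.filter fun ω => σ ω = ω).card ∧
        T.card + (p - 1) * (T.filter fun ω => σ ω = ω).card ≤ p * S.card by
    obtain ⟨S, -, h1, h2, h3⟩ := key _ Finset.univ rfl (fun ω _ => Finset.mem_univ _)
    refine ⟨S, fun ω => h1 ω (Finset.mem_univ _), ?_⟩
    rw [Nat.card_eq_fintype_card, Nat.card_eq_fintype_card, Fintype.card_subtype, ← Finset.card_univ]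
    exact le_antisymm h2 h3
  intro m
  induction m using Nat.strong_induction_on with
  | _ m ih =>
    intro T hm hT
    rcases T.eq_empty_or_nonempty with rfl | ⟨ω₀, hω₀⟩
    · exact ⟨∅, subset_rfl, fun ω h => absurd h (Finset.notMem_empty ω), by simp, by simp⟩
    have hpow : ∀ (i : ℕ) (ω : Ω), (σ ^ i) ω = (σ ^ (i % p)) ω := by
      intro i ω
      conv_lhs => rw [← Nat.mod_add_div i p, pow_add, pow_mul, hσ, one_pow, mul_one]
    set O : Finset Ω := (Finset.range p).image fun i => (σ ^ i) ω₀ with hO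
    have hOσ : ∀ ω, σ ω ∈ O → ω ∈ O := by
      intro ω h
      obtain ⟨i, -, hi⟩ := Finset.mem_image.mp h
      refine Finset.mem_image.mpr ⟨(i + (p - 1)) % p, Finset.mem_range.mpr (Nat.mod_lt _ hp.pos), ?_⟩
      have h1 : (σ ^ (i + (p - 1))) ω₀ = ω := by
        rw [add_comm, pow_add, Equiv.Perm.mul_apply, hi, ← Equiv.Perm.mul_apply, ← pow_succ,
          Nat.sub_add_cancel hp.pos, hσ, Equiv.Perm.one_apply]
      rw [← hpow, h1]
    have hOT : O ⊆ T := by
      intro ω h
      obtain ⟨i, -, rfl⟩ := Finset.mem_image.mp h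
      clear h
      induction i with
      | zero => simpa using hω₀
      | succ i ihi => rw [pow_succ', Equiv.Perm.mul_apply]; exact hT _ ihi
    have hω₀O : ω₀ ∈ O := Finset.mem_image.mpr ⟨0, Finset.mem_range.mpr hp.pos, by simp⟩
    have hlt : (T \ O).card < m := by
      rw [← hm]
      exact Finset.card_lt_card (Finset.sdiff_ssubset hOT ⟨ω₀, hω₀O⟩)
    obtain ⟨S, hST, hS, hle, hge⟩ := ih _ hlt (T \ O) rfl (fun ω hω => by
      rw [Finset.mem_sdiff] at hω ⊢
      exact ⟨hT ω hω.1, fun h => hω.2 (hOσ ω h)⟩)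
    have hω₀S : ∀ ω ∈ T, ∃ (i : ℕ), ∃ s ∈ insert ω₀ S, ω = (σ ^ i) s := by
      intro ω hω
      by_cases h : ω ∈ O
      · obtain ⟨i, -, hi⟩ := Finset.mem_image.mp h
        exact ⟨i, ω₀, Finset.mem_insert_self _ _, hi.symm⟩
      · obtain ⟨i, s, hs, e⟩ := hS ω (Finset.mem_sdiff.mpr ⟨hω, h⟩)
        exact ⟨i, s, Finset.mem_insert_of_mem hs, e⟩
    -- the size of the cycle
    have hcardO : (σ ω₀ = ω₀ ∧ O.card = 1 ∧ (O.filter fun ω => σ ω = ω).card = 1) ∨
        (σ ω₀ ≠ ω₀ ∧ O.card = p ∧ (O.filter fun ω => σ ω = ω).card = 0) := by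
      by_cases h0 : σ ω₀ = ω₀
      · have hfix : ∀ i : ℕ, (σ ^ i) ω₀ = ω₀ := fun i => by
          induction i with
          | zero => simp
          | succ i ihi => rw [pow_succ, Equiv.Perm.mul_apply, h0, ihi]
        have hO1 : O = {ω₀} := by
          ext ω
          simp only [hO, Finset.mem_image, hfix, Finset.mem_singleton]
          exact ⟨fun ⟨i, _, h⟩ => h.symm, fun h => ⟨0, Finset.mem_range.mpr hp.pos, h.symm⟩⟩
        exact Or.inl ⟨h0, by rw [hO1]; simp, by rw [hO1, Finset.filter_singleton, if_pos h0]; simp⟩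
      · refine Or.inr ⟨h0, ?_, ?_⟩
        · haveI := Fact.mk hp
          have hper : Function.minimalPeriod σ ω₀ = p := by
            refine Function.minimalPeriod_eq_prime ?_ h0
            show (σ : Ω → Ω)^[p] ω₀ = ω₀
            rw [← Equiv.Perm.coe_pow, hσ]; rfl
          rw [hO, Finset.card_image_of_injOn, Finset.card_range]
          intro a ha b hb hab
          simp only [Finset.coe_range, Set.mem_Iio] at ha hb
          refine Function.iterate_injOn_Iio_minimalPeriod (f := (σ : Ω → Ω)) (x := ω₀) (by rwa [Set.mem_Iio, hper])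
            (by rwa [Set.mem_Iio, hper]) ?_
          simp only [← Equiv.Perm.coe_pow]
          exact hab
        · rw [Finset.card_eq_zero, Finset.filter_eq_empty_iff]
          intro ω hω h
          obtain ⟨i, -, rfl⟩ := Finset.mem_image.mp hω
          refine h0 ((σ ^ i).injective ?_)
          rw [← Equiv.Perm.mul_apply, ← pow_succ, pow_succ', Equiv.Perm.mul_apply]
          exact h
    have hω₀nS : ω₀ ∉ S := fun h => (Finset.mem_sdiff.mp (hST h)).2 hω₀O
    refine ⟨insert ω₀ S, Finset.insert_subset hω₀ (hST.trans Finset.sdiff_subset), hω₀S, ?_⟩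
    have h1 : T.card = (T \ O).card + O.card := (Finset.card_sdiff_add_card_eq_card hOT).symm
    have h2 : (T.filter fun ω => σ ω = ω).card =
        ((T \ O).filter fun ω => σ ω = ω).card + (O.filter fun ω => σ ω = ω).card := by
      rw [← Finset.card_union_of_disjoint (Finset.disjoint_filter_filter Finset.sdiff_disjoint), ← Finset.filter_union,
        Finset.sdiff_union_of_subset hOT]
    rw [Finset.card_insert_of_notMem hω₀nS, h1, h2]
    rcases hcardO with ⟨-, a, b⟩ | ⟨-, a, b⟩ <;> rw [a, b] <;> simp only [Nat.mul_add, Nat.mul_one, Nat.mul_zero] <;>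
      have := hp.pos <;> omega

/-- An element of odd prime order fixes at most a third of the cosets of a maximal subgroup. -/
theorem fixed_cosets {G : Type*} [Group G] [Finite G] [Group.IsSolvable G] {M : Subgroup G} (hM : IsCoatom M)
    {x : G} {p : ℕ} (hp : p.Prime) (hp2 : p ≠ 2) (hx : x ^ p = 1) (hgen : normalClosure ({x} : Set G) = ⊤) :
    3 * {c : G ⧸ M | x • c = c}.ncard ≤ M.index := by
  classical
  rcases {c : G ⧸ M | x • c = c}.eq_empty_or_nonempty with h | ⟨c₀, hc₀⟩
  · rw [h, Set.ncard_empty, mul_zero]; exact Nat.zero_le _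
  obtain ⟨g, rfl⟩ := QuotientGroup.mk_surjective c₀
  set y : G := g⁻¹ * x * g with hy
  have hyM : y ∈ M := by
    have h : x • (g : G ⧸ M) = (g : G ⧸ M) := hc₀
    rw [MulAction.Quotient.smul_coe, smul_eq_mul, eq_comm, QuotientGroup.eq] at h
    simpa [hy, mul_assoc] using h
  have hyp : y ^ p = 1 := by
    have : y = MulAut.conj g⁻¹ x := by simp [hy, MulAut.conj_apply]
    rw [this, ← map_pow, hx, map_one]
  have hygen : ∀ L : Subgroup G, L.Normal → y ∈ L → L = ⊤ := by
    intro L hL hyL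
    rw [← top_le_iff, ← hgen]
    haveI := hL
    refine normalClosure_le_normal (Set.singleton_subset_iff.mpr ?_)
    have := hL.conj_mem y hyL g
    simpa [hy, mul_assoc] using this
  -- a minimal normal subgroup not inside `M`
  obtain ⟨N, ⟨hNn, hNM⟩, hNmin⟩ := (Set.toFinite {N : Subgroup G | N.Normal ∧ ¬ N ≤ M}).exists_minimal
    ⟨⊤, inferInstance, fun h => hM.1 (top_le_iff.mp h)⟩
  haveI := hNn
  have hN0 : N ≠ ⊥ := fun h => hNM (h ▸ bot_le)
  have hcomm : ⁅N, N⁆ ≤ M := by
    by_contra h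
    have hlt := Group.IsSolvable.commutator_lt_of_ne_bot (G := G) hN0
    exact hlt.not_ge (hNmin ⟨inferInstance, h⟩ hlt.le)
  have hsup : N ⊔ M = ⊤ := hM.2 _ (lt_of_le_of_ne le_sup_right fun h => hNM (by rw [h]; exact le_sup_left))
  set D : Subgroup G := M ⊓ N with hD
  haveI hDn : D.Normal := by
    rw [← normalizer_eq_top_iff, ← top_le_iff, ← hsup, sup_le_iff]
    refine ⟨fun n hn => mem_normalizer_iff.mpr fun d => ?_, fun m hm => mem_normalizer_iff.mpr fun d => ?_⟩
    · constructor
      · rintro ⟨h1, h2⟩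
        refine ⟨?_, N.mul_mem (N.mul_mem hn h2) (N.inv_mem hn)⟩
        have h3 : ⁅n, d⁆ ∈ M := hcomm (commutator_mem_commutator hn h2)
        have h4 : n * d * n⁻¹ = ⁅n, d⁆ * d := by rw [commutatorElement_def]; group
        exact h4 ▸ mul_mem h3 h1
      · rintro ⟨h1, h2⟩
        have hd : d ∈ N := by simpa [mul_assoc] using hNn.conj_mem _ h2 n⁻¹
        refine ⟨?_, hd⟩
        have h3 : ⁅n, d⁆ ∈ M := hcomm (commutator_mem_commutator hn hd)
        have h4 : d = ⁅n, d⁆⁻¹ * (n * d * n⁻¹) := by rw [commutatorElement_def]; group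
        exact h4 ▸ M.mul_mem (M.inv_mem h3) h1
    · constructor
      · rintro ⟨h1, h2⟩
        exact ⟨M.mul_mem (M.mul_mem hm h1) (M.inv_mem hm), hNn.conj_mem _ h2 m⟩
      · rintro ⟨h1, h2⟩
        refine ⟨?_, by simpa [mul_assoc] using hNn.conj_mem _ h2 m⁻¹⟩
        have := M.mul_mem (M.mul_mem (M.inv_mem hm) h1) hm
        simpa [mul_assoc] using this
  set q := QuotientGroup.mk' D with hq
  have hq1 : ∀ a : G, q a = 1 ↔ a ∈ D := fun a => QuotientGroup.eq_one_iff a
  have hNab : ∀ a ∈ N, ∀ b ∈ N, q a * q b = q b * q a := by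
    intro a ha b hb
    rw [← commutatorElement_eq_one_iff_mul_comm, ← map_commutatorElement, hq1]
    exact ⟨hcomm (commutator_mem_commutator ha hb), commutator_le_right N N (commutator_mem_commutator ha hb)⟩
  set C : Subgroup G := N ⊓ (centralizer {q y}).comap q with hC
  have hmemC : ∀ n, n ∈ C ↔ n ∈ N ∧ q n * q y = q y * q n := fun n => by
    rw [hC, mem_inf, mem_comap, mem_centralizer_singleton_iff]
  have hCN : C ≤ N := inf_le_left
  have hDC : D ≤ C := fun d hd => (hmemC d).mpr ⟨hd.2, by rw [(hq1 d).mpr hd, one_mul, mul_one]⟩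
  -- the fixed cosets are the orbit of `C`
  have horbN : MulAction.orbit N ((1 : G) : G ⧸ M) = Set.univ := by
    refine Set.eq_univ_of_forall fun c => ?_
    obtain ⟨a, rfl⟩ := QuotientGroup.mk_surjective c
    obtain ⟨n, hn, m, hm, rfl⟩ := (mem_sup_of_normal_left).mp (show a ∈ N ⊔ M from hsup ▸ mem_top a)
    refine ⟨⟨n, hn⟩, ?_⟩
    show n • ((1 : G) : G ⧸ M) = _
    rw [MulAction.Quotient.smul_coe, smul_eq_mul, mul_one, QuotientGroup.eq]
    simpa using hm
  have hfix : ∀ n ∈ N, (y • (n : G ⧸ M) = (n : G ⧸ M) ↔ n ∈ C) := by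
    intro n hn
    rw [MulAction.Quotient.smul_coe, smul_eq_mul, QuotientGroup.eq, hmemC]
    simp only [hn, true_and]
    rw [← commutatorElement_eq_one_iff_mul_comm, ← map_commutatorElement, hq1]
    have h1 : ((y * n)⁻¹ * n) * y = ⁅n⁻¹, y⁻¹⁆ := by rw [commutatorElement_def]; group
    have h2 : ⁅n⁻¹, y⁻¹⁆ ∈ N := by
      have : ⁅n⁻¹, y⁻¹⁆ = n⁻¹ * (y⁻¹ * n * y⁻¹⁻¹) := by rw [commutatorElement_def]; group
      exact this ▸ mul_mem (inv_mem hn) (hNn.conj_mem _ hn y⁻¹)
    rw [← mul_mem_cancel_right hyM, h1]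
    trans ⁅n⁻¹, y⁻¹⁆ ∈ D
    · exact ⟨fun h => ⟨h, h2⟩, fun h => h.1⟩
    rw [← hq1, map_commutatorElement, commutatorElement_eq_one_iff_mul_comm, map_inv, map_inv, ← hq1 ⁅n, y⁆,
      map_commutatorElement, commutatorElement_eq_one_iff_mul_comm]
    exact (Commute.inv_inv_iff (a := q n) (b := q y))
  have horbC : MulAction.orbit C ((1 : G) : G ⧸ M) = {c : G ⧸ M | y • c = c} := by
    ext c
    constructor
    · rintro ⟨⟨n, hn⟩, rfl⟩
      show y • (n • ((1 : G) : G ⧸ M)) = n • ((1 : G) : G ⧸ M)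
      rw [MulAction.Quotient.smul_coe M n, smul_eq_mul, mul_one]
      exact (hfix n (hCN hn)).mpr hn
    · intro hc
      have hc' : c ∈ MulAction.orbit N ((1 : G) : G ⧸ M) := horbN ▸ Set.mem_univ c
      obtain ⟨⟨n, hn⟩, rfl⟩ := hc'
      change y • (n • ((1 : G) : G ⧸ M)) = n • ((1 : G) : G ⧸ M) at hc
      rw [MulAction.Quotient.smul_coe M n, smul_eq_mul, mul_one] at hc
      exact ⟨⟨n, (hfix n hn).mp hc⟩, rfl⟩
  have hcard : ∀ S : Subgroup G, (MulAction.orbit S ((1 : G) : G ⧸ M)).ncard = M.relIndex S := by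
    intro S
    rw [← MulAction.index_stabilizer, Subgroup.relIndex]
    congr 1
    ext ⟨s, hs⟩
    rw [MulAction.mem_stabilizer_iff, Subgroup.mem_subgroupOf]
    show s • ((1 : G) : G ⧸ M) = _ ↔ _
    rw [MulAction.Quotient.smul_coe, smul_eq_mul, mul_one, eq_comm, QuotientGroup.eq, inv_one, one_mul]
  have hbij : {c : G ⧸ M | x • c = c}.ncard = {c : G ⧸ M | y • c = c}.ncard := by
    rw [← Set.ncard_image_of_injective {c : G ⧸ M | y • c = c} (MulAction.injective g)]
    congr 1
    ext c
    simp only [Set.mem_setOf_eq, Set.mem_image]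
    constructor
    · intro h
      refine ⟨g⁻¹ • c, ?_, smul_inv_smul g c⟩
      rw [hy, mul_smul, mul_smul, smul_inv_smul, h]
    · rintro ⟨d, hd, rfl⟩
      conv_rhs => rw [← hd, hy, mul_smul, mul_smul, smul_inv_smul]
  have hDrel : M.relIndex N = D.relIndex N := (inf_relIndex_right M N).symm
  have hDC' : M.relIndex C = D.relIndex C := by
    rw [← inf_relIndex_right M C]
    congr 1
    exact le_antisymm (le_inf inf_le_left (inf_le_right.trans hCN)) (le_inf inf_le_left hDC)
  have hidx : M.index = D.relIndex N := by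
    rw [← hDrel, ← hcard N, horbN, Set.ncard_univ]
    rfl
  -- the fixed points in `N` form a subgroup of index at least `3`
  have hC3 : 3 ≤ C.relIndex N := by
    have h0 : C.relIndex N ≠ 0 := Subgroup.index_ne_zero_of_finite
    have h1 : C.relIndex N ≠ 1 := by
      rw [Ne, relIndex_eq_one]
      intro hle
      have hL : (centralizer ((N.map q : Subgroup (G ⧸ D)) : Set (G ⧸ D))).comap q = ⊤ := by
        haveI : (N.map q).Normal := hNn.map q (QuotientGroup.mk'_surjective D)
        refine hygen _ inferInstance ?_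
        rw [mem_comap, mem_centralizer_iff]
        rintro _ ⟨n, hn, rfl⟩
        exact ((hmemC n).mp (hle hn)).2
      have hNnorm : N ≤ normalizer (M : Set G) := by
        intro n hn
        have hcom : ∀ m : G, ⁅n, m⁆ ∈ M := by
          intro m
          have h2 : m ∈ (centralizer ((N.map q : Subgroup (G ⧸ D)) : Set (G ⧸ D))).comap q := hL ▸ mem_top m
          rw [mem_comap, mem_centralizer_iff] at h2
          have h3 := h2 (q n) ⟨n, hn, rfl⟩
          rw [← commutatorElement_eq_one_iff_mul_comm, ← map_commutatorElement, hq1] at h3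
          exact h3.1
        refine mem_normalizer_iff.mpr fun m => ?_
        have h4 : n * m * n⁻¹ = ⁅n, m⁆ * m := by rw [commutatorElement_def]; group
        rw [h4]
        exact (mul_mem_cancel_left (hcom m)).symm
      have hMn : M.Normal := by
        rw [← normalizer_eq_top_iff, ← top_le_iff, ← hsup]
        exact sup_le hNnorm le_normalizer
      exact hM.1 (hygen M hMn hyM)
    have h2 : C.relIndex N ≠ 2 := by
      intro h2
      obtain ⟨n0, hn0, hn0C⟩ := SetLike.exists_of_lt (lt_of_le_of_ne hCN fun e => h1 (by rw [e]; exact relIndex_self _))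
      have hyn : y * n0 * y⁻¹ ∈ N := hNn.conj_mem _ hn0 y
      have hnC : ∀ a ∈ N, a ∉ C → n0⁻¹ * a ∈ C := by
        intro a ha haC
        have := (Subgroup.mul_mem_iff_of_index_two (H := C.subgroupOf N) h2
          (a := (⟨n0, hn0⟩ : N)⁻¹) (b := ⟨a, ha⟩)).mpr ?_
        · exact this
        · simp only [mem_subgroupOf, coe_inv]
          exact iff_of_false (fun h => hn0C (inv_mem_iff.mp h)) haC
      have hyC : ∀ a, a ∈ N → y * a * y⁻¹ ∈ C → a ∈ C := by
        intro a ha h
        rw [hmemC] at h ⊢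
        refine ⟨ha, ?_⟩
        have h' := h.2
        rw [map_mul, map_mul, map_inv, inv_mul_cancel_right] at h'
        exact eq_mul_inv_iff_mul_eq.mp (mul_left_cancel h')
      set c : G := n0⁻¹ * (y * n0 * y⁻¹) with hc
      have hcC : c ∈ C := hnC _ hyn fun h => hn0C (hyC _ hn0 h)
      have hn2 : n0 * n0 ∈ C := by
        have := (Subgroup.mul_mem_iff_of_index_two (H := C.subgroupOf N) h2
          (a := (⟨n0, hn0⟩ : N)) (b := ⟨n0, hn0⟩)).mpr Iff.rfl
        exact this
      obtain ⟨hcN, hcy⟩ := (hmemC c).mp hcC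
      have hconj : ∀ i : ℕ, q y ^ i * q n0 * (q y ^ i)⁻¹ = q n0 * q c ^ i := by
        intro i
        induction i with
        | zero => simp
        | succ i ih =>
          have e1 : q y * q n0 * (q y)⁻¹ = q n0 * q c := by
            rw [hc]; simp only [map_mul, map_inv]; group
          have e2 : q y * q c ^ i * (q y)⁻¹ = q c ^ i := by
            have := ((show Commute (q c) (q y) from hcy).pow_left i).eq
            rw [← this, mul_inv_cancel_right]
          calc q y ^ (i + 1) * q n0 * (q y ^ (i + 1))⁻¹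
              = q y * (q y ^ i * q n0 * (q y ^ i)⁻¹) * (q y)⁻¹ := by rw [pow_succ']; group
            _ = (q y * q n0 * (q y)⁻¹) * (q y * q c ^ i * (q y)⁻¹) := by rw [ih]; group
            _ = q n0 * q c ^ (i + 1) := by rw [e1, e2, mul_assoc, ← pow_succ']
      have hcp : q c ^ p = 1 := by
        have := hconj p
        rw [← map_pow, hyp, map_one, inv_one, one_mul, mul_one] at this
        exact mul_left_cancel (this.symm.trans (mul_one _).symm)
      have hc2 : q c ^ 2 = 1 := by
        have e1 := hconj 1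
        rw [pow_one, pow_one] at e1
        have e2 := ((hmemC _).mp hn2).2
        rw [map_mul] at e2
        have e3 : (q n0 * q c) * (q n0 * q c) = q n0 * q n0 := by
          rw [← e1]
          calc q y * q n0 * (q y)⁻¹ * (q y * q n0 * (q y)⁻¹)
              = q y * (q n0 * q n0) * (q y)⁻¹ := by group
            _ = q n0 * q n0 := by rw [← e2, mul_inv_cancel_right]
        have e4 : q c * q n0 = q n0 * q c := hNab c hcN n0 hn0
        rw [mul_assoc, ← mul_assoc (q c), e4, ← mul_assoc, ← mul_assoc, mul_assoc (q n0 * q n0)] at e3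
        rw [sq]
        exact mul_eq_left.mp e3
      have hc1 : q c = 1 := by
        have hg : Nat.gcd p 2 = 1 := (Nat.coprime_primes hp Nat.prime_two).mpr hp2
        simpa [hg] using pow_gcd_eq_one.mpr ⟨hcp, hc2⟩
      have e1 := hconj 1
      rw [pow_one, pow_one, hc1, mul_one, mul_inv_eq_iff_eq_mul] at e1
      exact hn0C ((hmemC n0).mpr ⟨hn0, e1.symm⟩)
    omega
  rw [hbij, ← horbC, hcard C, hDC', hidx, ← relIndex_mul_relIndex D C N hDC hCN, mul_comm]
  exact Nat.mul_le_mul_left _ hC3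

/-- An element of odd prime order fixes at most a third of the points of a transitive action. -/
theorem fixed_bound {G : Type*} [Group G] [Finite G] [Group.IsSolvable G] {Ω : Type*} [Finite Ω] [MulAction G Ω]
    [MulAction.IsPretransitive G Ω] [Nontrivial Ω]
    {x : G} {p : ℕ} (hp : p.Prime) (hp2 : p ≠ 2) (hx : x ^ p = 1) (hgen : normalClosure ({x} : Set G) = ⊤) :
    3 * {ω : Ω | x • ω = ω}.ncard ≤ Nat.card Ω := by
  classical
  haveI := Fintype.ofFinite Ω
  obtain ⟨ω₀, ω₁, h01⟩ := exists_pair_ne Ω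
  have hH : MulAction.stabilizer G ω₀ ≠ ⊤ := fun h => by
    obtain ⟨g, hg⟩ := MulAction.exists_smul_eq G ω₀ ω₁
    exact h01 (((MulAction.mem_stabilizer_iff).mp (h ▸ mem_top g)).symm.trans hg)
  obtain ⟨M, hM, hHM⟩ := (eq_top_or_exists_le_coatom (MulAction.stabilizer G ω₀)).resolve_left hH
  haveI := Fintype.ofFinite (G ⧸ M)
  choose r hr using fun ω => MulAction.exists_smul_eq G ω₀ ω
  let φ : Ω → G ⧸ M := fun ω => (r ω : G ⧸ M)
  have hφ : ∀ (g : G) ω, φ (g • ω) = g • φ ω := by
    intro g ω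
    show (r (g • ω) : G ⧸ M) = g • (r ω : G ⧸ M)
    rw [MulAction.Quotient.smul_coe, smul_eq_mul, QuotientGroup.eq]
    refine hHM ?_
    rw [MulAction.mem_stabilizer_iff, mul_smul, mul_smul, hr, inv_smul_eq_iff, hr]
  have hfib : ∀ c : G ⧸ M, {ω | φ ω = c}.ncard = {ω | φ ω = φ ω₀}.ncard := by
    intro c
    obtain ⟨g, hg⟩ := MulAction.exists_smul_eq G (φ ω₀) c
    rw [← Set.ncard_image_of_injective {ω | φ ω = φ ω₀} (MulAction.injective g)]
    congr 1
    ext ω
    simp only [Set.mem_setOf_eq, Set.mem_image]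
    constructor
    · intro h
      refine ⟨g⁻¹ • ω, ?_, smul_inv_smul g ω⟩
      rw [hφ, h, ← hg, inv_smul_smul]
    · rintro ⟨ω', h, rfl⟩
      rw [hφ, h, hg]
  set m := {ω | φ ω = φ ω₀}.ncard
  have hpre : ∀ F : Finset (G ⧸ M), (Finset.univ.filter fun ω => φ ω ∈ F).card = F.card * m := by
    intro F
    rw [Finset.card_eq_sum_card_fiberwise (s := Finset.univ.filter fun ω => φ ω ∈ F) (t := F) (f := φ)
      (fun ω hω => (Finset.mem_filter.mp hω).2)]
    rw [Finset.sum_congr rfl (g := fun _ => m), Finset.sum_const, smul_eq_mul]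
    intro c hc
    rw [← hfib c, Set.ncard_eq_toFinset_card']
    congr 1
    ext ω
    simp only [Finset.mem_filter, Finset.mem_univ, true_and, Set.mem_toFinset, Set.mem_setOf_eq]
    exact ⟨fun h => h.2, fun h => ⟨h ▸ hc, h⟩⟩
  have hall : Nat.card Ω = M.index * m := by
    have := hpre Finset.univ
    rw [Finset.filter_true_of_mem (fun ω _ => Finset.mem_univ _), Finset.card_univ, Finset.card_univ] at this
    rw [Subgroup.index, Nat.card_eq_fintype_card, Nat.card_eq_fintype_card, this]
  have hle : {ω : Ω | x • ω = ω}.ncard ≤ {c : G ⧸ M | x • c = c}.ncard * m := by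
    rw [Set.ncard_eq_toFinset_card' {c : G ⧸ M | x • c = c}, ← hpre, ← Set.ncard_coe_finset]
    refine Set.ncard_le_ncard (fun ω hω => ?_) (Set.toFinite _)
    simp only [Finset.coe_filter, Finset.mem_univ, true_and, Set.mem_setOf_eq, Set.mem_toFinset] at hω ⊢
    rw [← hφ, hω]
  calc 3 * {ω : Ω | x • ω = ω}.ncard ≤ 3 * ({c : G ⧸ M | x • c = c}.ncard * m) := Nat.mul_le_mul_left _ hle
    _ = (3 * {c : G ⧸ M | x • c = c}.ncard) * m := (mul_assoc _ _ _).symm
    _ ≤ M.index * m := Nat.mul_le_mul_right _ (fixed_cosets hM hp hp2 hx hgen)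
    _ = Nat.card Ω := hall.symm

end CfsgLib.FixedHalf
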